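import Mathlib
import Cfsg.Prelude.Def_DegreeGraph
import Cfsg.Agent.Lib.Char.ThreeDeg.Coprime
import Cfsg.Agent.Lib.Char.ItoMichler
import Cfsg.Agent.Lib.Char.DetExt
import Cfsg.Agent.Lib.Char.TwoDeg
import Cfsg.Agent.Lib.Char.TwistDet

/-!
# Relative character degree graphs: the basic tools

For a normal subgroup `N` of `G` and an irreducible character `τ` of `N` we put
`κ(τ) = |G : T_τ| τ(1)`, which divides the degree of each irreducible character of `G` over `τ`.

* `exists_mul_of_coprime`: subgroups of coprime indices factor the group.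
* `pow_eq_one_of_res_mul`: the determinant argument for `N ≤ G'`.
* `Stable`, `stable_of_coprime`: the key property of two characters whose orbits have coprime sizes
  while the orbit of the product has size coprime to one of them.
-/

set_option autoImplicit false
set_option linter.style.haveILetI false
set_option linter.unusedSectionVars false

namespace Cfsg.Agent.Lib.Char.RelGraph

open Cfsg Cfsg.Agent.Lib.Char Cfsg.Agent.Lib.Char.Basic Cfsg.Agent.Lib.Char.Ortho
  Cfsg.Agent.Lib.Char.Clifford Cfsg.Agent.Lib.Char.CliffordCorr Cfsg.Agent.Lib.Char.Monomial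
  Cfsg.Agent.Lib.Char.TwoDeg Cfsg.Agent.Lib.Char.TwistDet

universe u

/-- Subgroups of coprime indices factor the group. -/
theorem exists_mul_of_coprime {G : Type*} [Group G] [Finite G] (A B : Subgroup G)
    (h : Nat.Coprime A.index B.index) (g : G) : ∃ a ∈ A, ∃ b ∈ B, g = a * b := by
  classical
  have hA0 : A.index ≠ 0 := Subgroup.index_ne_zero_of_finite
  have hB0 : B.index ≠ 0 := Subgroup.index_ne_zero_of_finite
  have hinf : (A ⊓ B).index = A.index * B.index := by
    apply le_antisymm Subgroup.index_inf_le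
    apply Nat.le_of_dvd (Nat.pos_of_ne_zero Subgroup.index_ne_zero_of_finite)
    exact Nat.Coprime.mul_dvd_of_dvd_of_dvd h (Subgroup.index_dvd_of_le inf_le_left)
      (Subgroup.index_dvd_of_le inf_le_right)
  have hrel : B.relIndex A = B.index := by
    have h1 := Subgroup.relIndex_mul_index (inf_le_left : A ⊓ B ≤ A)
    rw [Subgroup.inf_relIndex_left, hinf, mul_comm] at h1
    exact Nat.eq_of_mul_eq_mul_left (Nat.pos_of_ne_zero hA0) h1
  let q : A ⧸ B.subgroupOf A → G ⧸ B := fun x => Quotient.liftOn' x (fun a : A => ((a : G) : G ⧸ B))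
    (by
      intro a b hab
      apply QuotientGroup.eq.2
      have h2 := QuotientGroup.leftRel_apply.1 hab
      exact Subgroup.mem_subgroupOf.1 h2)
  have hq : Function.Injective q := by
    intro x y
    induction x using QuotientGroup.induction_on with
    | H a =>
      induction y using QuotientGroup.induction_on with
      | H b =>
        intro hxy
        apply QuotientGroup.eq.2
        have h2 : ((a : G) : G ⧸ B) = ((b : G) : G ⧸ B) := hxy
        have h3 := QuotientGroup.eq.1 h2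
        exact Subgroup.mem_subgroupOf.2 h3
  have hbij : Function.Bijective q := hq.bijective_of_nat_card_le (by
    show B.index ≤ B.relIndex A
    rw [hrel])
  obtain ⟨x, hx⟩ := hbij.2 ((g : G) : G ⧸ B)
  induction x using QuotientGroup.induction_on with
  | H a =>
    have h2 : ((a : G) : G ⧸ B) = ((g : G) : G ⧸ B) := hx
    refine ⟨a, a.2, (a : G)⁻¹ * g, QuotientGroup.eq.1 h2, by group⟩

section Graph

variable {G : Type u} [Group G] (N : Subgroup G)

/-- Reachability in the relative graph, on natural numbers. -/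
def Rc (a b : ℕ) : Prop := ∃ (ha : a ∈ relCharDegrees N) (hb : b ∈ relCharDegrees N),
  (commonDivisorGraph.induce (relCharDegrees N)).Reachable ⟨a, ha⟩ ⟨b, hb⟩

variable {N}

theorem Rc.symm {a b : ℕ} (h : Rc N a b) : Rc N b a := by
  obtain ⟨ha, hb, h⟩ := h
  exact ⟨hb, ha, h.symm⟩

theorem Rc.trans {a b c : ℕ} (h : Rc N a b) (h' : Rc N b c) : Rc N a c := by
  obtain ⟨ha, hb, h⟩ := h
  obtain ⟨_, hc, h'⟩ := h'
  exact ⟨ha, hc, h.trans h'⟩

theorem Rc.refl {a : ℕ} (ha : a ∈ relCharDegrees N) : Rc N a a := ⟨ha, ha, SimpleGraph.Reachable.refl _⟩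

theorem rc_of_gcd {a b : ℕ} (ha : a ∈ relCharDegrees N) (hb : b ∈ relCharDegrees N)
    (h : 1 < Nat.gcd a b) : Rc N a b := by
  by_cases hab : a = b
  · subst hab
    exact Rc.refl ha
  · refine ⟨ha, hb, SimpleGraph.Adj.reachable ?_⟩
    exact ⟨hab, h⟩

end Graph

section Det

variable {G : Type u} [Group G] [Fintype G] (N : Subgroup G) [Fintype N]

/-- The determinant argument: if `φ₁ = z φ₂` on `N ≤ G'` then `z ^ φ₁(1) = 1`. -/
theorem pow_eq_one_of_res_mul {φ₁ φ₂ : G → ℂ} (h₁ : IsCharacter G φ₁) (h₂ : IsCharacter G φ₂)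
    (hNG : N ≤ commutator G) (z : N →* ℂˣ) (h : ∀ n : N, φ₁ n = ((z n : ℂˣ) : ℂ) * φ₂ n) {d : ℕ}
    (hd : φ₁ 1 = d) (n : N) : z n ^ d = 1 := by
  classical
  obtain ⟨f₁, hf₁⟩ := DetExt.exists_hom_detChar h₁
  obtain ⟨f₂, hf₂⟩ := DetExt.exists_hom_detChar h₂
  have hone : ∀ (f : G →* ℂˣ) (n : N), f n = 1 := by
    intro f n
    have h1 := Abelianization.commutator_subset_ker f (hNG n.2)
    exact h1
  obtain ⟨m, ρ, hρ⟩ := h₂
  let σ : Representation ℂ N (Fin m → ℂ) := ρ.comp N.subtype
  have hσ : σ.character = fun n : N => φ₂ n := by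
    rw [← hρ]
    rfl
  have hres₁ : (twistRep σ z).character = fun n : N => φ₁ n := by
    funext n
    rw [character_twistRep, h n, hσ]
  have hm : m = d := by
    have h1 := h 1
    simp only [map_one, Units.val_one, one_mul, OneMemClass.coe_one] at h1
    rw [hd, ← hρ, Representation.char_one] at h1
    simp only [Module.finrank_fin_fun] at h1
    exact_mod_cast h1.symm
  subst hm
  apply Units.ext
  simp only [Units.val_one, Units.val_pow_eq_pow_val]
  have h1 : LinearMap.det (twistRep σ z n) = 1 := by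
    rw [← DetExt.detChar_character, hres₁, ← DetExt.detChar_res N h₁ n, hf₁, hone]
    simp
  have h2 : LinearMap.det (σ n) = 1 := by
    rw [← DetExt.detChar_character, hσ, ← DetExt.detChar_res N ⟨m, ρ, hρ⟩ n, hf₂, hone]
    simp
  rw [twistRep_apply, LinearMap.det_smul, Module.finrank_fin_fun, h2, mul_one] at h1
  exact h1

end Det

section Core

variable {G : Type u} [Group G] (N : Subgroup G) [hN : N.Normal]

/-- The character of a homomorphism. -/
abbrev Lz (z : N →* ℂˣ) : N → ℂ := fun n => ((z n : ℂˣ) : ℂ)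

/-- The twist of a function by a homomorphism. -/
abbrev mulz (τ : N → ℂ) (z : N →* ℂˣ) : N → ℂ := fun n => τ n * ((z n : ℂˣ) : ℂ)

variable {N}

theorem conjFun_mulz (g : G) (τ : N → ℂ) (z : N →* ℂˣ) :
    conjFun N g (mulz N τ z) = mulz N (conjFun N g τ) (cj N g z) := rfl

theorem conjFun_Lz (g : G) (z : N →* ℂˣ) : conjFun N g (Lz N z) = Lz N (cj N g z) := rfl

theorem mulz_mulz (τ : N → ℂ) (z w : N →* ℂˣ) : mulz N (mulz N τ z) w = mulz N τ (z * w) := by
  funext n
  simp [mul_assoc]

theorem mulz_one (τ : N → ℂ) : mulz N τ 1 = τ := by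
  funext n
  show τ n * (((1 : N →* ℂˣ) n : ℂˣ) : ℂ) = τ n
  simp

theorem mulz_Lz (z w : N →* ℂˣ) : mulz N (Lz N z) w = Lz N (z * w) := by
  funext n
  show ((z n : ℂˣ) : ℂ) * ((w n : ℂˣ) : ℂ) = (((z * w) n : ℂˣ) : ℂ)
  simp

theorem Lz_injective : Function.Injective (Lz N) := by
  intro z w h
  ext n
  exact congrFun h n

theorem mem_inertia_Lz {g : G} {z : N →* ℂˣ} : g ∈ inertiaOf N (Lz N z) ↔ cj N g z = z := by
  rw [mem_inertiaOf]
  constructor
  · intro h
    ext n
    exact h n
  · intro h n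
    have := congrFun (congrArg DFunLike.coe h) n
    exact congrArg Units.val this

theorem mem_inertia_iff {g : G} {τ : N → ℂ} : g ∈ inertiaOf N τ ↔ conjFun N g τ = τ := by
  rw [mem_inertiaOf, funext_iff]
  rfl

/-- The stability property: multiplication by `z^k / z` permutes the orbit of `τ`. -/
def Stable (τ : N → ℂ) (z : N →* ℂˣ) : Prop :=
  ∀ g k : G, ∃ g' : G, mulz N (conjFun N g τ) (com N z k) = conjFun N g' τ

/-- **The key lemma.** -/
theorem stable_of_coprime [Finite G] {τ : N → ℂ} {z : N →* ℂˣ}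
    (h₁ : Nat.Coprime (inertiaOf N τ).index (inertiaOf N (Lz N z)).index)
    (h₂ : Nat.Coprime (inertiaOf N (mulz N τ z)).index (inertiaOf N (Lz N z)).index) :
    Stable τ z := by
  have hstar : ∀ k : G, ∃ u ∈ inertiaOf N (Lz N z), mulz N τ (com N z k) = conjFun N u τ := by
    intro k
    obtain ⟨u, hu, t, ht, rfl⟩ := exists_mul_of_coprime _ _ h₁.symm k
    obtain ⟨y, hy, u', hu', rfl⟩ := exists_mul_of_coprime _ _ h₂ t
    refine ⟨u', hu', ?_⟩
    have hu1 : cj N u z = z := mem_inertia_Lz.1 hu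
    have hu1' : cj N u' z = z := mem_inertia_Lz.1 hu'
    have ht1 : conjFun N (y * u') τ = τ := mem_inertia_iff.1 ht
    have hy1 : conjFun N y (mulz N τ z) = mulz N τ z := mem_inertia_iff.1 hy
    have hcj : cj N (u * (y * u')) z = cj N (y * u') z := by
      rw [cj_mul, hu1]
    have h3 : mulz N τ (cj N (y * u') z) = mulz N (conjFun N u' τ) z := by
      have h4 : conjFun N (y * u') (mulz N τ z) = mulz N (conjFun N u' τ) z := by
        rw [conjFun_mul, hy1, conjFun_mulz, hu1']
      rw [conjFun_mulz, ht1] at h4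
      exact h4
    funext n
    have h5 := congrFun h3 n
    simp only [mulz, com_apply, hcj] at h5 ⊢
    have hz : ((z n : ℂˣ) : ℂ) ≠ 0 := Units.ne_zero _
    simp only [Units.val_mul, Units.val_inv_eq_inv_val]
    field_simp
    rw [h5, mul_comm]
  intro g k
  obtain ⟨t₁, ht₁, u₁, hu₁, rfl⟩ := exists_mul_of_coprime _ _ h₁ g
  have hg : conjFun N (t₁ * u₁) τ = conjFun N u₁ τ := by
    rw [conjFun_mul, mem_inertia_iff.1 ht₁]
  obtain ⟨u', -, hu'⟩ := hstar (k * u₁⁻¹)
  refine ⟨u' * u₁, ?_⟩
  rw [hg, conjFun_mul, ← hu', conjFun_mulz]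
  congr 1
  show cj N k z * z⁻¹ = cj N u₁ (cj N (k * u₁⁻¹) z * z⁻¹)
  rw [cj_mul_hom, cj_inv_hom, mem_inertia_Lz.1 hu₁, ← cj_mul]
  simp

end Core

end Cfsg.Agent.Lib.Char.RelGraph
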