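import Mathlib
import Cfsg.Agent.Lib.Char.RelGraph.Basic

/-!
# Relative character degree graphs: the number `κ(τ)`
-/

set_option autoImplicit false
set_option linter.style.haveILetI false
set_option linter.unusedSectionVars false

namespace Cfsg.Agent.Lib.Char.RelGraph

open Cfsg Cfsg.Agent.Lib.Char Cfsg.Agent.Lib.Char.Basic Cfsg.Agent.Lib.Char.Ortho
  Cfsg.Agent.Lib.Char.Clifford Cfsg.Agent.Lib.Char.CliffordCorr Cfsg.Agent.Lib.Char.Monomial
  Cfsg.Agent.Lib.Char.TwoDeg Cfsg.Agent.Lib.Char.TwistDet Cfsg.Agent.Lib.Char.IndNormal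
  Cfsg.Agent.Lib.Char.PrimeIndex

universe u

variable {G : Type u} [Group G] [Fintype G] (N : Subgroup G) [hN : N.Normal] [Fintype N]

/-- `χ` lies over `τ`. -/
abbrev Ov (χ : G → ℂ) (τ : N → ℂ) : Prop := classInner (fun n : N => χ n) τ ≠ 0

/-- The number `κ(τ) = |G : T_τ| τ(1)`. -/
noncomputable def kap (τ : N → ℂ) : ℕ := (inertiaOf N τ).index * charDegree τ

variable {N}

theorem charDegree_irr_ne_zero {K : Type*} [Group K] [Finite K] {τ : K → ℂ}
    (hτ : IsIrrCharacter K τ) : charDegree τ ≠ 0 := by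
  intro h
  have h1 := Values.IsCharacter.charDegree_cast (isCharacter_of_isIrrCharacter hτ)
  rw [h] at h1
  exact irr_apply_one_ne_zero hτ (by simpa using h1.symm)

theorem kap_ne_zero {τ : N → ℂ} (hτ : IsIrrCharacter N τ) : kap N τ ≠ 0 :=
  mul_ne_zero Subgroup.index_ne_zero_of_finite (charDegree_irr_ne_zero hτ)

/-- The degree formula. -/
theorem degree_eq {χ : G → ℂ} {τ : N → ℂ} (hχ : IsIrrCharacter G χ) (hτ : IsIrrCharacter N τ)
    (h : Ov N χ τ) : ∃ e : ℕ, classInner (fun n : N => χ n) τ = e ∧ charDegree χ = e * kap N τ := by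
  have h1 := apply_one_eq N τ (inertiaOf N τ) hτ (mem_inertiaOf N τ) hχ h
  obtain ⟨e, he⟩ := exists_nat_classInner_of_isCharacter
    (isCharacter_restrict (isCharacter_of_isIrrCharacter hχ) N) (isCharacter_of_isIrrCharacter hτ)
  have hd := Values.IsCharacter.charDegree_cast (isCharacter_of_isIrrCharacter hτ)
  refine ⟨e, he, ?_⟩
  rw [he, ← hd] at h1
  apply Values.IsCharacter.charDegree_eq (isCharacter_of_isIrrCharacter hχ)
  rw [h1]
  unfold kap
  push_cast
  rfl

theorem kap_dvd {χ : G → ℂ} {τ : N → ℂ} (hχ : IsIrrCharacter G χ) (hτ : IsIrrCharacter N τ)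
    (h : Ov N χ τ) : kap N τ ∣ charDegree χ := by
  obtain ⟨e, -, he⟩ := degree_eq hχ hτ h
  rw [he]
  exact Dvd.intro_left _ rfl

/-- A character over a nontrivial one has its degree in the relative degree set. -/
theorem mem_rel_of_over {χ : G → ℂ} {τ : N → ℂ} (hχ : IsIrrCharacter G χ) (hτ : IsIrrCharacter N τ)
    (hne : τ ≠ fun _ => 1) (h : Ov N χ τ) : charDegree χ ∈ relCharDegrees N := by
  refine ⟨⟨χ, hχ⟩, ?_, rfl⟩
  by_contra hcon
  push Not at hcon
  apply h
  have h1 : (fun n : N => χ n) = χ 1 • (fun _ => (1 : ℂ)) := by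
    funext n
    have h2 : χ n = χ 1 := hcon n n.2
    simp [h2]
  rw [h1, classInner_smul_left, classInner_irr_of_ne isIrrCharacter_principal hτ (Ne.symm hne),
    mul_zero]

/-- A character whose kernel does not contain `N` lies over a nontrivial character. -/
theorem exists_below {χ : G → ℂ} (hχ : IsIrrCharacter G χ) (hne : ∃ x ∈ N, χ x ≠ χ 1) :
    ∃ τ : N → ℂ, IsIrrCharacter N τ ∧ τ ≠ (fun _ => 1) ∧ Ov N χ τ := by
  by_contra hcon
  push Not at hcon
  obtain ⟨x, hx, hxne⟩ := hne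
  apply hxne
  have hres := isCharacter_restrict (isCharacter_of_isIrrCharacter hχ) N
  have hdec := decomp_eq_sum_classInner hres
  have key : ∀ m : N, χ m = ∑ ψ : IrrCharacter N,
      classInner (fun n : N => χ n) (ψ : N → ℂ) * ((ψ : N → ℂ) m) := fun m => by
    have := congrFun hdec m
    simpa [Finset.sum_apply] using this
  have h1 := key ⟨x, hx⟩
  have h2 := key 1
  simp only [OneMemClass.coe_one] at h2
  rw [show x = ((⟨x, hx⟩ : N) : G) from rfl, h1, h2]
  refine Finset.sum_congr rfl fun ψ _ => ?_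
  by_cases hψ : (ψ : N → ℂ) = fun _ => 1
  · rw [hψ]
  · rw [hcon ψ ψ.2 hψ]
    simp

section Inv

/-- The restriction of a character over a `G`-invariant twist. -/
theorem res_twist_of_inv {χ ζ : G → ℂ} {τ : N → ℂ} (hχ : IsIrrCharacter G χ)
    (hζ : IsIrrCharacter G ζ) (hτ : IsIrrCharacter N τ) (z : N →* ℂˣ) (hinv : ∀ g, cj N g z = z)
    (h₁ : Ov N χ τ) (h₂ : Ov N ζ (mulz N τ z)) :
    ∃ e e' : ℕ, e ∣ charDegree χ ∧ ∀ n : N, (e : ℂ) * ζ n = ((z n : ℂˣ) : ℂ) * ((e' : ℂ) * χ n) := by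
  classical
  have hσ : IsIrrCharacter N (mulz N τ z) := isIrr_mul_hom hτ z
  obtain ⟨e, he, hχe⟩ := degree_eq hχ hτ h₁
  obtain ⟨e', he', -⟩ := degree_eq hζ hσ h₂
  refine ⟨e, e', ⟨kap N τ, hχe⟩, fun n => ?_⟩
  have c₁ := congrFun (res_eq_smul_finsum N hχ hτ h₁) n
  have c₂ := congrFun (res_eq_smul_finsum N hζ hσ h₂) n
  rw [he] at c₁
  rw [he'] at c₂
  have horb : orbitSet N (mulz N τ z) = (fun θ : N → ℂ => mulz N θ z) '' orbitSet N τ := by
    ext ψ
    constructor
    · rintro ⟨g, rfl⟩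
      refine ⟨conjFun N g τ, ⟨g, rfl⟩, ?_⟩
      rw [conjFun_mulz, hinv g]
    · rintro ⟨θ, ⟨g, rfl⟩, rfl⟩
      refine ⟨g, ?_⟩
      rw [conjFun_mulz, hinv g]
  have hinj : Set.InjOn (fun θ : N → ℂ => mulz N θ z) (orbitSet N τ) := by
    intro a _ b _ hab
    funext m
    have h3 := congrFun hab m
    exact mul_right_cancel₀ (Units.ne_zero _) h3
  rw [horb, finsum_mem_image hinj] at c₂
  have hfin := orbitSet_finite N hτ
  rw [finsum_mem_eq_finite_toFinset_sum _ hfin] at c₁ c₂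
  simp only [Pi.smul_apply, Finset.sum_apply, smul_eq_mul] at c₁ c₂
  have c₃ : ∑ θ ∈ hfin.toFinset, mulz N θ z n = (∑ θ ∈ hfin.toFinset, θ n) * ((z n : ℂˣ) : ℂ) := by
    rw [Finset.sum_mul]
  rw [c₃] at c₂
  rw [c₁, c₂]
  ring

/-- An invariant linear character below `χ`: the order divides the degree. -/
theorem pow_eq_one_of_inv_below (hNG : N ≤ commutator G) {χ : G → ℂ} (hχ : IsIrrCharacter G χ)
    (z : N →* ℂˣ) (hinv : ∀ g, cj N g z = z) (h : Ov N χ (Lz N z)) (n : N) :
    z n ^ charDegree χ = 1 := by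
  classical
  have hz := LinearChars.isIrr_of_hom z
  obtain ⟨e, he, -⟩ := degree_eq hχ hz h
  have hc := congrFun (res_eq_smul_finsum N hχ hz h)
  have horb : orbitSet N (Lz N z) = {Lz N z} := by
    ext ψ
    constructor
    · rintro ⟨g, rfl⟩
      rw [conjFun_Lz, hinv g]
      rfl
    · rintro rfl
      exact ⟨1, by simp⟩
  rw [horb, finsum_mem_singleton, he] at hc
  refine pow_eq_one_of_res_mul N (isCharacter_of_isIrrCharacter hχ)
    (isCharacter_nsmul (isCharacter_one) e) hNG z ?_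
    (Values.IsCharacter.charDegree_cast (isCharacter_of_isIrrCharacter hχ)).symm n
  intro n
  have h1 := hc n
  simp only [Pi.smul_apply, smul_eq_mul] at h1
  rw [h1]
  simp only [Pi.smul_apply, Pi.one_apply, nsmul_eq_mul, mul_one]
  ring

/-- The central chief factor case. -/
theorem inv_case (hNG : N ≤ commutator G) (z : N →* ℂˣ) (hinv : ∀ g, cj N g z = z) (hz1 : z ≠ 1)
    {p : ℕ} (hp : p.Prime) (hzp : ∀ n, z n ^ p = 1) {χ : G → ℂ} (hχ : IsIrrCharacter G χ)
    (hne : ∃ x ∈ N, χ x ≠ χ 1) (hpχ : ¬ p ∣ charDegree χ) :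
    ∃ ζ : G → ℂ, IsIrrCharacter G ζ ∧ charDegree ζ ∈ relCharDegrees N ∧ p ∣ charDegree ζ ∧
      1 < Nat.gcd (charDegree χ) (charDegree ζ) := by
  classical
  haveI : Fact p.Prime := ⟨hp⟩
  obtain ⟨n₀, hn₀⟩ : ∃ n₀, z n₀ ≠ 1 := by
    by_contra hcon
    push Not at hcon
    exact hz1 (MonoidHom.ext hcon)
  have hord : orderOf (z n₀) = p := orderOf_eq_prime (hzp n₀) hn₀
  obtain ⟨τ, hτ, hτ1, hover⟩ := exists_below hχ hne
  have hσ : IsIrrCharacter N (mulz N τ z) := isIrr_mul_hom hτ z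
  -- `σ` is nontrivial
  have hσ1 : mulz N τ z ≠ fun _ => 1 := by
    intro h
    have hτz : τ = Lz N z⁻¹ := by
      funext n
      have h1 := congrFun h n
      simp only [mulz] at h1
      show τ n = ((z⁻¹ n : ℂˣ) : ℂ)
      rw [MonoidHom.inv_apply, Units.val_inv_eq_inv_val]
      exact eq_inv_of_mul_eq_one_left h1
    rw [hτz] at hover
    have h2 := pow_eq_one_of_inv_below hNG hχ z⁻¹ (fun g => by rw [cj_inv_hom, hinv g]) hover n₀
    rw [MonoidHom.inv_apply, inv_pow, inv_eq_one] at h2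
    exact hpχ (hord ▸ orderOf_dvd_of_pow_eq_one h2)
  obtain ⟨ζ, hζ, hover'⟩ := ItoMichler.exists_irr_over N hσ
  refine ⟨ζ, hζ, mem_rel_of_over hζ hσ hσ1 hover', ?_, ?_⟩
  · -- `p` divides the degree of `ζ`
    obtain ⟨e, e', hee, hn⟩ := res_twist_of_inv hχ hζ hτ z hinv hover hover'
    have hcχ := isCharacter_of_isIrrCharacter hχ
    have hcζ := isCharacter_of_isIrrCharacter hζ
    have h1 := pow_eq_one_of_res_mul N (isCharacter_nsmul hcζ e) (isCharacter_nsmul hcχ e') hNG z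
      (fun n => by
        simp only [Pi.smul_apply, nsmul_eq_mul]
        exact hn n) (d := e * charDegree ζ) (by
        rw [Pi.smul_apply, ← Values.IsCharacter.charDegree_cast hcζ]
        push_cast
        simp) n₀
    have h2 := orderOf_dvd_of_pow_eq_one h1
    rw [hord] at h2
    rcases (Nat.Prime.dvd_mul hp).1 h2 with h3 | h3
    · exact absurd (h3.trans hee) hpχ
    · exact h3
  · -- the common prime
    have hTeq : inertiaOf N (mulz N τ z) = inertiaOf N τ := by
      ext g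
      rw [mem_inertia_iff, mem_inertia_iff, conjFun_mulz, hinv g]
      constructor
      · intro h
        funext m
        have h3 := congrFun h m
        exact mul_right_cancel₀ (Units.ne_zero _) h3
      · intro h
        rw [h]
    have hdeg : charDegree (mulz N τ z) = charDegree τ := by
      unfold charDegree
      simp
    have hkap : kap N (mulz N τ z) = kap N τ := by
      unfold kap
      rw [hTeq, hdeg]
    have hd₁ := kap_dvd hχ hτ hover
    have hd₂ := kap_dvd hζ hσ hover'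
    rw [hkap] at hd₂
    have hχ0 := charDegree_irr_ne_zero hχ
    have hζ0 := charDegree_irr_ne_zero hζ
    have hgcd0 : 0 < Nat.gcd (charDegree χ) (charDegree ζ) :=
      Nat.gcd_pos_of_pos_left _ (Nat.pos_of_ne_zero hχ0)
    by_cases hk1 : kap N τ = 1
    · -- invariant linear character
      have h1 : (inertiaOf N τ).index = 1 := Nat.eq_one_of_mul_eq_one_right hk1
      have h2 : charDegree τ = 1 := Nat.eq_one_of_mul_eq_one_left hk1
      have hτc := isCharacter_of_isIrrCharacter hτ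
      have hτone : τ 1 = 1 := by
        rw [← Values.IsCharacter.charDegree_cast hτc, h2]
        simp
      obtain ⟨z₁, hz₁⟩ := LinearChars.exists_hom_of_isCharacter_one hτc hτone
      have htop : inertiaOf N τ = ⊤ := Subgroup.index_eq_one.1 h1
      have hinv₁ : ∀ g, cj N g z₁ = z₁ := by
        intro g
        have h3 : g ∈ inertiaOf N τ := htop ▸ Subgroup.mem_top g
        rw [hz₁] at h3
        exact mem_inertia_Lz.1 h3
      have hz₁1 : z₁ ≠ 1 := by
        intro h
        apply hτ1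
        rw [hz₁, h]
        funext n
        simp
      have hover₁ : Ov N χ (Lz N z₁) := by
        rw [← show τ = Lz N z₁ from hz₁]
        exact hover
      have hover₂ : Ov N ζ (Lz N (z₁ * z)) := by
        rw [← mulz_Lz, ← show τ = Lz N z₁ from hz₁]
        exact hover'
      obtain ⟨n₁, hn₁⟩ : ∃ n₁, z₁ n₁ ≠ 1 := by
        by_contra hcon
        push Not at hcon
        exact hz₁1 (MonoidHom.ext hcon)
      have e₁ := pow_eq_one_of_inv_below hNG hχ z₁ hinv₁ hover₁ n₁
      have e₂ := pow_eq_one_of_inv_below hNG hζ (z₁ * z)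
        (fun g => by rw [cj_mul_hom, hinv₁ g, hinv g]) hover₂ n₁
      have e₃ : z₁ n₁ ^ (p * charDegree ζ) = 1 := by
        rw [MonoidHom.mul_apply] at e₂
        have h3 : (z₁ n₁ * z n₁) ^ (p * charDegree ζ) = 1 := by
          rw [mul_comm p, pow_mul, e₂, one_pow]
        rw [mul_pow, pow_mul (z n₁), hzp, one_pow, mul_one] at h3
        exact h3
      have d₁ := orderOf_dvd_of_pow_eq_one e₁
      have d₂ := orderOf_dvd_of_pow_eq_one e₃
      have hcop : Nat.Coprime (orderOf (z₁ n₁)) p := by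
        apply Nat.Coprime.symm
        rw [Nat.Prime.coprime_iff_not_dvd hp]
        exact fun h => hpχ (h.trans d₁)
      have d₃ := hcop.dvd_of_dvd_mul_left d₂
      have d₄ := Nat.dvd_gcd d₁ d₃
      have hord1 : orderOf (z₁ n₁) ≠ 1 := fun h => hn₁ (orderOf_eq_one_iff.1 h)
      have h5 := Nat.le_of_dvd hgcd0 d₄
      have h6 : orderOf (z₁ n₁) ≠ 0 := by
        intro h
        rw [h, Nat.zero_dvd] at d₁
        exact hχ0 d₁
      omega
    · have h4 := Nat.dvd_gcd hd₁ hd₂
      have h5 := Nat.le_of_dvd hgcd0 h4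
      have h6 := kap_ne_zero hτ
      omega

/-- The minimal exponent of a homomorphism. -/
theorem exists_min_exp (z : N →* ℂˣ) : ∃ k : ℕ, 0 < k ∧ (∀ n, z n ^ k = 1) ∧
    ∀ j, 0 < j → (∀ n, z n ^ j = 1) → k ≤ j := by
  classical
  have hex : ∃ k : ℕ, 0 < k ∧ ∀ n, z n ^ k = 1 := by
    refine ⟨Nat.card N, Nat.card_pos, fun n => ?_⟩
    rw [← map_pow, pow_card_eq_one', map_one]
  refine ⟨Nat.find hex, (Nat.find_spec hex).1, (Nat.find_spec hex).2, fun j hj h => ?_⟩
  exact Nat.find_min' hex ⟨hj, h⟩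

/-- A nontrivial power of prime exponent of a homomorphism. -/
theorem exists_prime_power_hom (z : N →* ℂˣ) {k s : ℕ} (hk : 0 < k) (hzk : ∀ n, z n ^ k = 1)
    (hmin : ∀ j, 0 < j → (∀ n, z n ^ j = 1) → k ≤ j) (hs : s.Prime) (hsk : s ∣ k) :
    ∃ c : ℕ, z ^ c ≠ 1 ∧ ∀ n, (z ^ c) n ^ s = 1 := by
  obtain ⟨c, rfl⟩ := hsk
  refine ⟨c, ?_, ?_⟩
  · intro h
    have hc0 : 0 < c := Nat.pos_of_mul_pos_left hk |> fun _ => by
      rcases Nat.eq_zero_or_pos c with h0 | h0
      · subst h0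
        simp at hk
      · exact h0
    have h1 := hmin c hc0 (fun n => by
      have := congrArg (fun f : N →* ℂˣ => f n) h
      simpa using this)
    have := hs.two_le
    nlinarith
  · intro n
    rw [MonoidHom.pow_apply, ← pow_mul, mul_comm]
    exact hzk n

/-- If `N ≤ G'` has a nontrivial invariant linear character, the relative graph is connected. -/
theorem all_reach_of_inv (hNG : N ≤ commutator G) (z : N →* ℂˣ) (hinv : ∀ g, cj N g z = z)
    (hz1 : z ≠ 1) {a b : ℕ} (ha : a ∈ relCharDegrees N) (hb : b ∈ relCharDegrees N) :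
    Rc N a b := by
  classical
  -- an invariant linear character of prime order
  obtain ⟨k, hk, hzk, hmin⟩ := exists_min_exp z
  have hk1 : k ≠ 1 := by
    rintro rfl
    apply hz1
    ext n
    simpa using congrArg Units.val (hzk n)
  obtain ⟨p, hp, hpk⟩ := Nat.exists_prime_and_dvd hk1
  obtain ⟨c, hz₀1, hz₀p⟩ := exists_prime_power_hom z hk hzk hmin hp hpk
  have hz₀inv : ∀ g, cj N g (z ^ c) = z ^ c := by
    intro g
    rw [cj_pow_hom, hinv g]
  have hub : ∀ {a : ℕ}, a ∈ relCharDegrees N → ∃ a', a' ∈ relCharDegrees N ∧ p ∣ a' ∧ Rc N a a' := by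
    intro a ha
    obtain ⟨χ, hne, rfl⟩ := id ha
    by_cases hpχ : p ∣ charDegree (χ : G → ℂ)
    · exact ⟨_, ha, hpχ, Rc.refl ha⟩
    · obtain ⟨ζ, -, hζ, hpζ, hg⟩ := inv_case hNG (z ^ c) hz₀inv hz₀1 hp hz₀p χ.2 hne hpχ
      exact ⟨_, hζ, hpζ, rc_of_gcd ha hζ hg⟩
  obtain ⟨a', ha', hpa', hra⟩ := hub ha
  obtain ⟨b', hb', hpb', hrb⟩ := hub hb
  refine hra.trans (Rc.trans (rc_of_gcd ha' hb' ?_) hrb.symm)
  have h0 : 0 < a' := by
    obtain ⟨χ, -, rfl⟩ := ha'
    exact Nat.pos_of_ne_zero (charDegree_irr_ne_zero χ.2)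
  have h1 := Nat.le_of_dvd (Nat.gcd_pos_of_pos_left _ h0) (Nat.dvd_gcd hpa' hpb')
  have := hp.two_le
  omega

end Inv

end Cfsg.Agent.Lib.Char.RelGraph
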