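import Mathlib
import Cfsg.Agent.Lib.Char.RelGraph.Kappa

/-!
# Relative character degree graphs: the main theorem

If `N` is a nonperfect normal subgroup of `G` inside `G'` then two degrees of `cd(G | N)` in different
connected components of the common divisor graph are such that one is coprime to `|N : N'|` and the
other is divisible by every prime divisor of `|N : N'|`.
-/

set_option autoImplicit false
set_option linter.style.haveILetI false
set_option linter.unusedSectionVars false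

namespace Cfsg.Agent.Lib.Char.RelGraph

open Cfsg Cfsg.Agent.Lib.Char Cfsg.Agent.Lib.Char.Basic Cfsg.Agent.Lib.Char.Ortho
  Cfsg.Agent.Lib.Char.Clifford Cfsg.Agent.Lib.Char.CliffordCorr Cfsg.Agent.Lib.Char.Monomial
  Cfsg.Agent.Lib.Char.TwoDeg Cfsg.Agent.Lib.Char.TwistDet Cfsg.Agent.Lib.Char.PrimeIndex

universe u

variable {G : Type u} [Group G] [Fintype G] (N : Subgroup G) [hN : N.Normal] [Fintype N]

/-- There is no nontrivial `G`-invariant linear character of `N`. -/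
def NoInv : Prop := ∀ z : N →* ℂˣ, (∀ g, cj N g z = z) → z = 1

/-- The connection relation between characters of `N`. -/
def E (τ₁ τ₂ : N → ℂ) : Prop := ∀ χ₁ χ₂ : G → ℂ, IsIrrCharacter G χ₁ → IsIrrCharacter G χ₂ →
  Ov N χ₁ τ₁ → Ov N χ₂ τ₂ → Rc N (charDegree χ₁) (charDegree χ₂)

variable {N}

theorem E.symm {τ₁ τ₂ : N → ℂ} (h : E N τ₁ τ₂) : E N τ₂ τ₁ :=
  fun χ₁ χ₂ h₁ h₂ o₁ o₂ => (h χ₂ χ₁ h₂ h₁ o₂ o₁).symm

theorem E.trans {τ₁ τ₂ τ₃ : N → ℂ} (h : E N τ₁ τ₂) (h' : E N τ₂ τ₃) (hτ₂ : IsIrrCharacter N τ₂) :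
    E N τ₁ τ₃ := by
  intro χ₁ χ₃ h₁ h₃ o₁ o₃
  obtain ⟨χ₂, h₂, o₂⟩ := ItoMichler.exists_irr_over N hτ₂
  exact (h χ₁ χ₂ h₁ h₂ o₁ o₂).trans (h' χ₂ χ₃ h₂ h₃ o₂ o₃)

theorem E_of_gcd {τ₁ τ₂ : N → ℂ} (h₁ : IsIrrCharacter N τ₁) (h₂ : IsIrrCharacter N τ₂)
    (hne₁ : τ₁ ≠ fun _ => 1) (hne₂ : τ₂ ≠ fun _ => 1) (h : 1 < Nat.gcd (kap N τ₁) (kap N τ₂)) :
    E N τ₁ τ₂ := by
  intro χ₁ χ₂ hχ₁ hχ₂ o₁ o₂
  apply rc_of_gcd (mem_rel_of_over hχ₁ h₁ hne₁ o₁) (mem_rel_of_over hχ₂ h₂ hne₂ o₂)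
  have h3 := Nat.gcd_dvd_gcd_of_dvd_left (kap N τ₂) (kap_dvd hχ₁ h₁ o₁)
  have h4 : Nat.gcd (kap N τ₁) (kap N τ₂) ∣ Nat.gcd (charDegree χ₁) (charDegree χ₂) :=
    Nat.dvd_gcd ((Nat.gcd_dvd_left _ _).trans (kap_dvd hχ₁ h₁ o₁))
      ((Nat.gcd_dvd_right _ _).trans (kap_dvd hχ₂ h₂ o₂))
  have h5 := Nat.le_of_dvd (Nat.gcd_pos_of_pos_left _
    (Nat.pos_of_ne_zero (charDegree_irr_ne_zero hχ₁))) h4
  omega

theorem charDegree_Lz (z : N →* ℂˣ) : charDegree (Lz N z) = 1 := by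
  show ⌊(((z 1 : ℂˣ) : ℂ)).re⌋₊ = 1
  simp

theorem charDegree_mulz (τ : N → ℂ) (z : N →* ℂˣ) : charDegree (mulz N τ z) = charDegree τ := by
  show ⌊(τ 1 * ((z 1 : ℂˣ) : ℂ)).re⌋₊ = ⌊(τ 1).re⌋₊
  simp

theorem Lz_ne_one {z : N →* ℂˣ} (hz : z ≠ 1) : Lz N z ≠ fun _ => 1 := by
  intro h
  apply hz
  ext n
  exact congrFun h n

theorem index_dvd_kap (τ : N → ℂ) : (inertiaOf N τ).index ∣ kap N τ := Dvd.intro _ rfl

theorem degree_dvd_kap (τ : N → ℂ) : charDegree τ ∣ kap N τ := Dvd.intro_left _ rfl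

theorem kap_Lz (z : N →* ℂˣ) : kap N (Lz N z) = (inertiaOf N (Lz N z)).index := by
  unfold kap
  rw [charDegree_Lz, mul_one]

theorem one_lt_kap (hno : NoInv N) {τ : N → ℂ} (hτ : IsIrrCharacter N τ) (hne : τ ≠ fun _ => 1) :
    1 < kap N τ := by
  have h0 := kap_ne_zero hτ
  by_contra hcon
  have hk1 : kap N τ = 1 := by omega
  have h1 : (inertiaOf N τ).index = 1 := Nat.eq_one_of_mul_eq_one_right hk1
  have h2 : charDegree τ = 1 := Nat.eq_one_of_mul_eq_one_left hk1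
  have hτc := isCharacter_of_isIrrCharacter hτ
  have hτone : τ 1 = 1 := by
    rw [← Values.IsCharacter.charDegree_cast hτc, h2]
    simp
  obtain ⟨z₁, hz₁⟩ := LinearChars.exists_hom_of_isCharacter_one hτc hτone
  have htop : inertiaOf N τ = ⊤ := Subgroup.index_eq_one.1 h1
  have hinv₁ : ∀ g, cj N g z₁ = z₁ := by
    intro g
    have h3 : g ∈ inertiaOf N τ := htop ▸ Subgroup.mem_top g
    rw [hz₁] at h3
    exact mem_inertia_Lz.1 h3
  apply hne
  rw [hz₁, hno z₁ hinv₁]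
  funext n
  simp

theorem exists_noninv (hno : NoInv N) {z : N →* ℂˣ} (hz : z ≠ 1) : ∃ k, cj N k z ≠ z := by
  by_contra hcon
  push Not at hcon
  exact hz (hno z hcon)

/-- The prime divides `κ(τ)` when multiplication by `z^k / z` permutes the orbit of `τ`. -/
theorem dvd_kap_of_stable {τ : N → ℂ} (hτ : IsIrrCharacter N τ) {z : N →* ℂˣ} (hst : Stable τ z)
    {r a : ℕ} (hr : r.Prime) (hza : ∀ n, z n ^ r ^ a = 1) {k : G} (hk : cj N k z ≠ z) :
    r ∣ kap N τ := by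
  classical
  by_cases hrd : r ∣ charDegree τ
  · exact Dvd.dvd.mul_left hrd _
  apply Dvd.dvd.mul_right
  haveI : Fact r.Prime := ⟨hr⟩
  set w : N →* ℂˣ := com N z k with hw
  have hwa : ∀ n, w n ^ r ^ a = 1 := by
    intro n
    rw [hw, com_apply, mul_pow, inv_pow, hza n, inv_one, mul_one, cj_apply, hza]
  have hw1 : w ≠ 1 := by
    intro h
    apply hk
    exact (com_eq_one_iff N).1 h
  have hfin := orbitSet_finite N hτ
  haveI : Fintype (orbitSet N τ) := hfin.fintype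
  let f : Function.End (orbitSet N τ) := fun θ => ⟨mulz N θ.1 w, by
    obtain ⟨θ, g, rfl⟩ := θ
    obtain ⟨g', hg'⟩ := hst g k
    exact ⟨g', hg'⟩⟩
  have hfpow : ∀ (j : ℕ) (θ : orbitSet N τ), ((f ^ j) θ).1 = mulz N θ.1 (w ^ j) := by
    intro j
    induction j with
    | zero =>
      intro θ
      funext n
      show θ.1 n = θ.1 n * (((w ^ 0 : N →* ℂˣ) n : ℂˣ) : ℂ)
      simp
    | succ j ih =>
      intro θ
      have h0 : ((f ^ (j + 1)) θ).1 = ((f ^ j) (f θ)).1 := by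
        rw [pow_succ]
        rfl
      rw [h0, ih]
      funext n
      show θ.1 n * ((w n : ℂˣ) : ℂ) * (((w ^ j : N →* ℂˣ) n : ℂˣ) : ℂ) =
        θ.1 n * (((w ^ (j + 1) : N →* ℂˣ) n : ℂˣ) : ℂ)
      simp only [MonoidHom.pow_apply, pow_succ, Units.val_mul, Units.val_pow_eq_pow_val]
      ring
  have hf : f ^ r ^ a = 1 := by
    funext θ
    apply Subtype.ext
    rw [hfpow]
    funext n
    show θ.1 n * (((w ^ r ^ a : N →* ℂˣ) n : ℂˣ) : ℂ) = θ.1 n
    rw [MonoidHom.pow_apply, hwa n]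
    simp
  have hmod := Equiv.Perm.card_fixedPoints_modEq hf
  have hempty : IsEmpty f.fixedPoints := by
    refine ⟨fun θ => ?_⟩
    obtain ⟨⟨θ, g, rfl⟩, hθ⟩ := θ
    have hfix : mulz N (conjFun N g τ) w = conjFun N g τ :=
      congrArg Subtype.val (show f _ = _ from hθ)
    have h1 := pow_eq_one_of_twist (isIrr_conjFun N g hτ) w (fun a => congrFun hfix a)
      (n := charDegree τ) (by
        rw [conjFun_apply_one, Values.IsCharacter.charDegree_cast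
          (isCharacter_of_isIrrCharacter hτ)])
    apply hw1
    ext n
    have h2 : w n ^ charDegree τ = 1 := by
      apply Units.ext
      simpa using h1 n
    have h3 := pow_gcd_eq_one.2 ⟨hwa n, h2⟩
    have hcop : Nat.gcd (r ^ a) (charDegree τ) = 1 :=
      Nat.Coprime.pow_left a ((Nat.Prime.coprime_iff_not_dvd hr).2 hrd)
    rw [hcop, pow_one] at h3
    simp [h3]
  rw [Fintype.card_eq_zero_iff.2 hempty] at hmod
  have h3 : (orbitSet N τ).ncard = (inertiaOf N τ).index :=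
    ncard_orbitSet N τ (inertiaOf N τ) (mem_inertiaOf N τ)
  rw [← h3, Set.ncard_eq_toFinset_card' ]
  have h4 : (orbitSet N τ).toFinset.card = Fintype.card (orbitSet N τ) := Set.toFinset_card _
  rw [h4]
  exact (Nat.modEq_zero_iff_dvd).1 hmod

/-- Coprime exponents exclude the stability property. -/
theorem false_of_stable {z₁ z₂ : N →* ℂˣ} (hst : Stable (Lz N z₁) z₂) {A B : ℕ}
    (hAB : Nat.Coprime A B) (h₁ : ∀ n, z₁ n ^ A = 1) (h₂ : ∀ n, z₂ n ^ B = 1) {k : G}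
    (hk : cj N k z₂ ≠ z₂) : False := by
  obtain ⟨g', hg'⟩ := hst 1 k
  rw [conjFun_one, conjFun_Lz, mulz_Lz] at hg'
  have h3 : z₁ * com N z₂ k = cj N g' z₁ := Lz_injective hg'
  apply hk
  apply (com_eq_one_iff N).1
  ext n
  have h4 : com N z₂ k n = cj N g' z₁ n * (z₁ n)⁻¹ := by
    rw [← h3, MonoidHom.mul_apply, mul_comm (z₁ n), mul_inv_cancel_right]
  have h5 : com N z₂ k n ^ A = 1 := by
    rw [h4, mul_pow, inv_pow, h₁ n, inv_one, mul_one, cj_apply, h₁]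
  have h6 : com N z₂ k n ^ B = 1 := by
    rw [com_apply, mul_pow, inv_pow, h₂ n, inv_one, mul_one, cj_apply, h₂]
  have h7 := pow_gcd_eq_one.2 ⟨h5, h6⟩
  rw [hAB, pow_one] at h7
  simp [h7]

/-- **The pair lemma.** -/
theorem pair (hno : NoInv N) {τ : N → ℂ} (hτ : IsIrrCharacter N τ) (hτ1 : τ ≠ fun _ => 1)
    {z : N →* ℂˣ} (hz : z ≠ 1) :
    E N τ (Lz N z) ∨ Stable τ z ∨ ∃ z', τ = Lz N z' ∧ Stable (Lz N z) z' := by
  have hL := LinearChars.isIrr_of_hom z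
  have hL1 := Lz_ne_one hz
  have hgcd : ∀ {α β : N → ℂ}, IsIrrCharacter N α → ¬ Nat.Coprime (kap N α) (kap N β) →
      1 < Nat.gcd (kap N α) (kap N β) := by
    intro α β hα h
    have h0 : 0 < Nat.gcd (kap N α) (kap N β) :=
      Nat.gcd_pos_of_pos_left _ (Nat.pos_of_ne_zero (kap_ne_zero hα))
    have h1 : Nat.gcd (kap N α) (kap N β) ≠ 1 := h
    omega
  by_cases hcop : Nat.Coprime (kap N τ) (kap N (Lz N z))
  swap
  · exact Or.inl (E_of_gcd hτ hL hτ1 hL1 (hgcd hτ hcop))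
  have hy : IsIrrCharacter N (mulz N τ z) := isIrr_mul_hom hτ z
  have hcopT : Nat.Coprime (inertiaOf N τ).index (inertiaOf N (Lz N z)).index :=
    Nat.Coprime.coprime_dvd_left (index_dvd_kap τ) (by rw [← kap_Lz]; exact hcop)
  have hy1 : mulz N τ z ≠ fun _ => 1 := by
    intro h
    have hτz : τ = Lz N z⁻¹ := by
      funext n
      have h1 := congrFun h n
      simp only [mulz] at h1
      show τ n = ((z⁻¹ n : ℂˣ) : ℂ)
      rw [MonoidHom.inv_apply, Units.val_inv_eq_inv_val]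
      exact eq_inv_of_mul_eq_one_left h1
    have hT : inertiaOf N (Lz N z⁻¹) = inertiaOf N (Lz N z) := by
      ext g
      rw [mem_inertia_Lz, mem_inertia_Lz, cj_inv_hom]
      constructor
      · intro h
        ext n
        have h3 := DFunLike.congr_fun h n
        simp only [MonoidHom.inv_apply, inv_inj] at h3
        rw [h3]
      · intro h
        rw [h]
    rw [hτz, hT] at hcopT
    have h1 := one_lt_kap hno hL hL1
    rw [kap_Lz] at h1
    rw [Nat.coprime_self] at hcopT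
    omega
  by_cases h1 : Nat.Coprime (kap N (mulz N τ z)) (kap N (Lz N z))
  · refine Or.inr (Or.inl (stable_of_coprime hcopT ?_))
    apply Nat.Coprime.coprime_dvd_left (index_dvd_kap _)
    rw [← kap_Lz]
    exact h1
  by_cases h2 : Nat.Coprime (kap N (mulz N τ z)) (kap N τ)
  · refine Or.inr (Or.inr ?_)
    have hd : charDegree τ = 1 := by
      have h3 : charDegree τ ∣ Nat.gcd (kap N (mulz N τ z)) (kap N τ) :=
        Nat.dvd_gcd ((charDegree_mulz τ z) ▸ degree_dvd_kap _) (degree_dvd_kap _)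
      rw [h2] at h3
      exact Nat.dvd_one.1 h3
    have hτc := isCharacter_of_isIrrCharacter hτ
    have hτone : τ 1 = 1 := by
      rw [← Values.IsCharacter.charDegree_cast hτc, hd]
      simp
    obtain ⟨z', hz'⟩ := LinearChars.exists_hom_of_isCharacter_one hτc hτone
    have hz'' : τ = Lz N z' := hz'
    refine ⟨z', hz'', ?_⟩
    apply stable_of_coprime
    · rw [← hz'']
      exact hcopT.symm
    · have h3 : mulz N (Lz N z) z' = mulz N τ z := by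
        rw [hz'', mulz_Lz, mulz_Lz]
        funext n
        show ((z n * z' n : ℂˣ) : ℂ) = ((z' n * z n : ℂˣ) : ℂ)
        rw [mul_comm]
      rw [h3, ← hz'']
      apply Nat.Coprime.coprime_dvd_left (index_dvd_kap _)
      apply Nat.Coprime.coprime_dvd_right (index_dvd_kap _)
      exact h2
  · left
    exact (E_of_gcd hτ hy hτ1 hy1 (by rw [Nat.gcd_comm]; exact hgcd hy h2)).trans
      (E_of_gcd hy hL hy1 hL1 (hgcd hy h1)) hy

/-- Characters of prime power order for different primes are connected. -/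
theorem E_L_L (hno : NoInv N) {z₁ z₂ : N →* ℂˣ} (h₁ : z₁ ≠ 1) (h₂ : z₂ ≠ 1) {A B : ℕ}
    (hAB : Nat.Coprime A B) (e₁ : ∀ n, z₁ n ^ A = 1) (e₂ : ∀ n, z₂ n ^ B = 1) :
    E N (Lz N z₁) (Lz N z₂) := by
  obtain ⟨k₁, hk₁⟩ := exists_noninv hno h₁
  obtain ⟨k₂, hk₂⟩ := exists_noninv hno h₂
  rcases pair hno (LinearChars.isIrr_of_hom z₁) (Lz_ne_one h₁) h₂ with h | h | ⟨z', hz', h⟩
  · exact h
  · exact (false_of_stable h hAB e₁ e₂ hk₂).elim
  · have : z₁ = z' := Lz_injective hz'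
    subst this
    exact (false_of_stable h hAB.symm e₂ e₁ hk₁).elim

/-- Characters of `r`-power order, with `r` not dividing the `κ`'s, are connected. -/
theorem E_L_same (hno : NoInv N) {z₁ z₂ : N →* ℂˣ} (h₁ : z₁ ≠ 1) (h₂ : z₂ ≠ 1) {r a b : ℕ}
    (hr : r.Prime) (e₁ : ∀ n, z₁ n ^ r ^ a = 1) (e₂ : ∀ n, z₂ n ^ r ^ b = 1)
    (hk₁ : ¬ r ∣ kap N (Lz N z₁)) (hk₂ : ¬ r ∣ kap N (Lz N z₂)) :
    E N (Lz N z₁) (Lz N z₂) := by
  obtain ⟨k₁, hk₁'⟩ := exists_noninv hno h₁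
  obtain ⟨k₂, hk₂'⟩ := exists_noninv hno h₂
  rcases pair hno (LinearChars.isIrr_of_hom z₁) (Lz_ne_one h₁) h₂ with h | h | ⟨z', hz', h⟩
  · exact h
  · exact (hk₁ (dvd_kap_of_stable (LinearChars.isIrr_of_hom z₁) h hr e₂ hk₂')).elim
  · have : z₁ = z' := Lz_injective hz'
    subst this
    exact (hk₂ (dvd_kap_of_stable (LinearChars.isIrr_of_hom z₂) h hr e₁ hk₁')).elim

/-- The dichotomy for a character of `N` whose `κ` is not divisible by `r`. -/
theorem class_of_not_dvd (hno : NoInv N) {r : ℕ} (hr : r.Prime) {τ : N → ℂ}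
    (hτ : IsIrrCharacter N τ) (hτ1 : τ ≠ fun _ => 1) (hrκ : ¬ r ∣ kap N τ) :
    (∀ z : N →* ℂˣ, z ≠ 1 → (∃ a, ∀ n, z n ^ r ^ a = 1) → E N τ (Lz N z)) ∨
      ∃ z : N →* ℂˣ, τ = Lz N z ∧ z ≠ 1 ∧ ∃ a, ∀ n, z n ^ r ^ a = 1 := by
  classical
  by_cases hd : charDegree τ = 1
  · have hτc := isCharacter_of_isIrrCharacter hτ
    have hτone : τ 1 = 1 := by
      rw [← Values.IsCharacter.charDegree_cast hτc, hd]
      simp
    obtain ⟨z₀, hz₀⟩ := LinearChars.exists_hom_of_isCharacter_one hτc hτone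
    have hz₀' : τ = Lz N z₀ := hz₀
    have hz₀1 : z₀ ≠ 1 := by
      intro h
      apply hτ1
      rw [hz₀', h]
      funext n
      simp
    obtain ⟨k, hk, hzk, hmin⟩ := exists_min_exp z₀
    by_cases hall : ∀ s : ℕ, s.Prime → s ∣ k → s = r
    · right
      refine ⟨z₀, hz₀', hz₀1, k.primeFactorsList.length, fun n => ?_⟩
      have h1 := Nat.eq_prime_pow_of_unique_prime_dvd hk.ne' (fun {d} hd1 hd2 => hall d hd1 hd2)
      rw [← h1]
      exact hzk n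
    · left
      push Not at hall
      obtain ⟨s, hs, hsk, hsr⟩ := hall
      obtain ⟨c, hc1, hcs⟩ := exists_prime_power_hom z₀ hk hzk hmin hs hsk
      intro z hz ⟨a, ha⟩
      have hcop : Nat.Coprime s (r ^ a) :=
        Nat.Coprime.pow_right a ((Nat.coprime_primes hs hr).2 hsr)
      have h1 := E_L_L hno hc1 hz hcop hcs ha
      refine E.trans ?_ h1 (LinearChars.isIrr_of_hom _)
      rw [hz₀']
      apply E_of_gcd (LinearChars.isIrr_of_hom _) (LinearChars.isIrr_of_hom _) (Lz_ne_one hz₀1)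
        (Lz_ne_one hc1)
      have h2 := one_lt_kap hno (LinearChars.isIrr_of_hom (z₀ ^ c)) (Lz_ne_one hc1)
      have hdv : kap N (Lz N (z₀ ^ c)) ∣ kap N (Lz N z₀) := by
        rw [kap_Lz, kap_Lz]
        apply Subgroup.index_dvd_of_le
        intro g hg
        rw [mem_inertia_Lz] at hg ⊢
        rw [cj_pow_hom, hg]
      rw [Nat.gcd_eq_right hdv]
      exact h2
  · left
    intro z hz ⟨a, ha⟩
    obtain ⟨k, hk⟩ := exists_noninv hno hz
    rcases pair hno hτ hτ1 hz with h | h | ⟨z', hz', -⟩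
    · exact h
    · exact (hrκ (dvd_kap_of_stable hτ h hr ha hk)).elim
    · rw [hz', charDegree_Lz] at hd
      exact (hd rfl).elim

/-- Linear characters of `r`-power order. -/
theorem exists_L {r : ℕ} (hr : r.Prime) (hrm : r ∣ ⁅N, N⁆.relIndex N) :
    ∃ z : N →* ℂˣ, z ≠ 1 ∧ ∃ a, ∀ n, z n ^ r ^ a = 1 := by
  classical
  haveI : Fact r.Prime := ⟨hr⟩
  have h1 : ⁅N, N⁆.subgroupOf N = commutator N := by
    rw [← Subgroup.map_subtype_commutator N]
    exact Subgroup.comap_map_eq_self_of_injective N.subtype_injective _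
  have h2 : Nat.card (Abelianization N) = ⁅N, N⁆.relIndex N := by
    show Nat.card (N ⧸ commutator N) = (⁅N, N⁆.subgroupOf N).index
    rw [h1]
    rfl
  rw [← h2] at hrm
  haveI : Finite (Abelianization N) := inferInstance
  obtain ⟨x, hx⟩ := exists_prime_orderOf_dvd_card' r hrm
  have hx1 : x ≠ 1 := by
    intro h
    rw [h, orderOf_one] at hx
    exact hr.one_lt.ne hx
  obtain ⟨φ, hφ⟩ := CommGroup.exists_apply_ne_one_of_hasEnoughRootsOfUnity (Abelianization N) ℂ hx1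
  obtain ⟨a, b, hb, hab⟩ := Nat.exists_eq_pow_mul_and_not_dvd (Nat.card_pos (α := N)).ne' r hr.ne_one
  obtain ⟨y, rfl⟩ : ∃ y : N, Abelianization.of y = x := QuotientGroup.mk_surjective x
  let ζ : N →* ℂˣ := φ.comp Abelianization.of
  refine ⟨ζ ^ b, ?_, a, fun n => ?_⟩
  · intro h
    have h3 : (ζ ^ b) y = 1 := by rw [h]; rfl
    rw [MonoidHom.pow_apply] at h3
    have h4 : φ (Abelianization.of y) ^ r = 1 := by
      rw [← map_pow, ← hx, pow_orderOf_eq_one, map_one]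
    have h5 := pow_gcd_eq_one.2 ⟨h4, h3⟩
    rw [(Nat.Prime.coprime_iff_not_dvd hr).2 hb, pow_one] at h5
    exact hφ h5
  · rw [MonoidHom.pow_apply, ← pow_mul, mul_comm, ← hab, ← map_pow, pow_card_eq_one', map_one]

/-- **The main theorem** in the case of no invariant linear character. -/
theorem main_noinv (hno : NoInv N) {a b : ℕ} (ha : a ∈ relCharDegrees N) (hb : b ∈ relCharDegrees N)
    (hab : ¬ Rc N a b) :
    (Nat.Coprime a (⁅N, N⁆.relIndex N) ∧ ∀ r : ℕ, r.Prime → r ∣ ⁅N, N⁆.relIndex N → r ∣ b) ∨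
      (Nat.Coprime b (⁅N, N⁆.relIndex N) ∧ ∀ r : ℕ, r.Prime → r ∣ ⁅N, N⁆.relIndex N → r ∣ a) := by
  classical
  obtain ⟨χ₁, hne₁, rfl⟩ := id ha
  obtain ⟨χ₂, hne₂, rfl⟩ := id hb
  obtain ⟨τ₁, hτ₁, hτ₁1, o₁⟩ := exists_below χ₁.2 hne₁
  obtain ⟨τ₂, hτ₂, hτ₂1, o₂⟩ := exists_below χ₂.2 hne₂
  set a := charDegree (χ₁ : G → ℂ) with hadef
  set b := charDegree (χ₂ : G → ℂ) with hbdef
  have hE : ¬ E N τ₁ τ₂ := fun h => hab (h _ _ χ₁.2 χ₂.2 o₁ o₂)
  have hcopab : Nat.Coprime a b := by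
    by_contra hcon
    have h0 : 0 < Nat.gcd a b :=
      Nat.gcd_pos_of_pos_left _ (Nat.pos_of_ne_zero (charDegree_irr_ne_zero χ₁.2))
    have h1 : Nat.gcd a b ≠ 1 := hcon
    exact hab (rc_of_gcd ha hb (by omega))
  have hκ₁ : kap N τ₁ ∣ a := kap_dvd χ₁.2 hτ₁ o₁
  have hκ₂ : kap N τ₂ ∣ b := kap_dvd χ₂.2 hτ₂ o₂
  -- every prime of `m` divides one of the degrees
  have hX : ∀ r : ℕ, r.Prime → r ∣ ⁅N, N⁆.relIndex N → r ∣ a ∨ r ∣ b := by
    intro r hr hrm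
    by_contra hcon
    push Not at hcon
    obtain ⟨h₁, h₂⟩ := hcon
    have k₁ : ¬ r ∣ kap N τ₁ := fun h => h₁ (h.trans hκ₁)
    have k₂ : ¬ r ∣ kap N τ₂ := fun h => h₂ (h.trans hκ₂)
    apply hE
    rcases class_of_not_dvd hno hr hτ₁ hτ₁1 k₁ with c₁ | ⟨z₁, rfl, hz₁, hz₁a⟩
    · rcases class_of_not_dvd hno hr hτ₂ hτ₂1 k₂ with c₂ | ⟨z₂, rfl, hz₂, hz₂a⟩
      · obtain ⟨z₀, hz₀, hz₀a⟩ := exists_L hr hrm
        exact (c₁ z₀ hz₀ hz₀a).trans (c₂ z₀ hz₀ hz₀a).symm (LinearChars.isIrr_of_hom _)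
      · exact c₁ z₂ hz₂ hz₂a
    · rcases class_of_not_dvd hno hr hτ₂ hτ₂1 k₂ with c₂ | ⟨z₂, rfl, hz₂, hz₂a⟩
      · exact (c₂ z₁ hz₁ hz₁a).symm
      · obtain ⟨a₁, e₁⟩ := hz₁a
        obtain ⟨a₂, e₂⟩ := hz₂a
        exact E_L_same hno hz₁ hz₂ hr e₁ e₂ k₁ k₂
  -- a linear character of `r`-power order connected to `τ`
  have hlink : ∀ {τ : N → ℂ}, IsIrrCharacter N τ → (τ ≠ fun _ => 1) → ∀ r : ℕ, r.Prime →
      r ∣ ⁅N, N⁆.relIndex N → ¬ r ∣ kap N τ →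
      ∃ z : N →* ℂˣ, z ≠ 1 ∧ (∃ a, ∀ n, z n ^ r ^ a = 1) ∧ E N τ (Lz N z) := by
    intro τ hτ hτ1 r hr hrm hk
    rcases class_of_not_dvd hno hr hτ hτ1 hk with c | ⟨z, rfl, hz, hza⟩
    · obtain ⟨z₀, hz₀, hz₀a⟩ := exists_L hr hrm
      exact ⟨z₀, hz₀, hz₀a, c z₀ hz₀ hz₀a⟩
    · exact ⟨z, hz, hza, E_of_gcd (LinearChars.isIrr_of_hom _) (LinearChars.isIrr_of_hom _)
        (Lz_ne_one hz) (Lz_ne_one hz) (by
          rw [Nat.gcd_self]
          exact one_lt_kap hno (LinearChars.isIrr_of_hom _) (Lz_ne_one hz))⟩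
  -- consistency
  have hY : ∀ r s : ℕ, r.Prime → s.Prime → r ∣ ⁅N, N⁆.relIndex N → s ∣ ⁅N, N⁆.relIndex N →
      r ∣ a → s ∣ b → False := by
    intro r s hr hs hrm hsm hra hsb
    have hrb : ¬ r ∣ b := fun h => by
      have := Nat.dvd_gcd hra h
      rw [hcopab] at this
      exact hr.one_lt.ne' (Nat.dvd_one.1 this)
    have hsa : ¬ s ∣ a := fun h => by
      have := Nat.dvd_gcd h hsb
      rw [hcopab] at this
      exact hs.one_lt.ne' (Nat.dvd_one.1 this)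
    have hrs : r ≠ s := by
      rintro rfl
      exact hrb hsb
    obtain ⟨z₂, hz₂, ⟨a₂, e₂⟩, hE₂⟩ := hlink hτ₂ hτ₂1 r hr hrm (fun h => hrb (h.trans hκ₂))
    obtain ⟨z₁, hz₁, ⟨a₁, e₁⟩, hE₁⟩ := hlink hτ₁ hτ₁1 s hs hsm (fun h => hsa (h.trans hκ₁))
    have hcop : Nat.Coprime (s ^ a₁) (r ^ a₂) :=
      Nat.Coprime.pow _ _ ((Nat.coprime_primes hs hr).2 hrs.symm)
    exact hE ((hE₁.trans (E_L_L hno hz₁ hz₂ hcop e₁ e₂) (LinearChars.isIrr_of_hom _)).trans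
      hE₂.symm (LinearChars.isIrr_of_hom _))
  by_cases hall : ∀ r : ℕ, r.Prime → r ∣ ⁅N, N⁆.relIndex N → r ∣ b
  · left
    refine ⟨Nat.coprime_of_dvd fun k hk hka hkm => ?_, hall⟩
    have h1 := Nat.dvd_gcd hka (hall k hk hkm)
    rw [hcopab] at h1
    exact hk.one_lt.ne' (Nat.dvd_one.1 h1)
  · right
    push Not at hall
    obtain ⟨s, hs, hsm, hsb⟩ := hall
    have hsa : s ∣ a := (hX s hs hsm).resolve_right hsb
    have hall' : ∀ r : ℕ, r.Prime → r ∣ ⁅N, N⁆.relIndex N → r ∣ a := by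
      intro r hr hrm
      rcases hX r hr hrm with h | h
      · exact h
      · exact (hY s r hs hr hsm hrm hsa h).elim
    refine ⟨Nat.coprime_of_dvd fun k hk hkb hkm => ?_, hall'⟩
    have h1 := Nat.dvd_gcd (hall' k hk hkm) hkb
    rw [hcopab] at h1
    exact hk.one_lt.ne' (Nat.dvd_one.1 h1)

end Cfsg.Agent.Lib.Char.RelGraph
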