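import Mathlib
import Cfsg.Agent.Lib.Char.RelGraph.Main
import Cfsg.Agent.Lib.Char.ThreeDeg.DegDvd
import Cfsg.Agent.Lib.Char.FrobPair

/-!
# A descent lemma for coprime degrees

`H` is a finite solvable group and `τ₁, τ₂` are nonlinear irreducible characters of coprime degrees,
both prime to `|H : H'|`. Then there is an irreducible character `ψ` whose degree is divisible by one
of `τ₁(1), τ₂(1)` and has a common prime divisor with `|H : H'|`.
-/

set_option autoImplicit false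
set_option linter.style.haveILetI false
set_option linter.unusedSectionVars false

namespace Cfsg.Agent.Lib.Char.RelGraph

open Cfsg Cfsg.Agent.Lib.Char Cfsg.Agent.Lib.Char.Basic Cfsg.Agent.Lib.Char.Ortho
  Cfsg.Agent.Lib.Char.Clifford Cfsg.Agent.Lib.Char.CliffordCorr Cfsg.Agent.Lib.Char.Monomial
  Cfsg.Agent.Lib.Char.TwoDeg Cfsg.Agent.Lib.Char.TwistDet Cfsg.Agent.Lib.Char.PrimeIndex
  Cfsg.Agent.Lib.Char.ThreeDeg

open scoped commutatorElement

universe u

/-- Homomorphisms to `ℂˣ` detect the commutator subgroup. -/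
theorem mem_commutator_of_forall_hom {K : Type*} [Group K] [Finite K] (y : K)
    (h : ∀ z : K →* ℂˣ, z y = 1) : y ∈ commutator K := by
  by_contra hy
  have h1 : (Abelianization.of y) ≠ 1 := fun h2 => hy ((QuotientGroup.eq_one_iff y).1 h2)
  haveI : Finite (Abelianization K) := inferInstance
  obtain ⟨φ, hφ⟩ := CommGroup.exists_apply_ne_one_of_hasEnoughRootsOfUnity (Abelianization K) ℂ h1
  exact hφ (h (φ.comp Abelianization.of))

theorem charDegree_res {H : Type*} [Group H] (K : Subgroup H) (τ : H → ℂ) :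
    charDegree (fun k : K => τ k) = charDegree τ := by
  show ⌊(τ ((1 : K) : H)).re⌋₊ = ⌊(τ 1).re⌋₊
  simp

variable {H : Type u} [Group H] [Fintype H]

/-- Every linear character of `K` is `H`-invariant. -/
theorem inv_step {K : Subgroup H} [hK : K.Normal] [Fintype K] {m : ℕ}
    (hb : ∀ H₁ : Subgroup H, K ≤ H₁ → H₁ ≠ ⊤ → ∃ r : ℕ, r.Prime ∧ r ∣ H₁.index ∧ r ∣ m)
    {τ₁ τ₂ : H → ℂ} (h₁ : IsIrrCharacter H τ₁) (h₂ : IsIrrCharacter H τ₂)
    (r₁ : IsIrrCharacter K (fun k : K => τ₁ k)) (r₂ : IsIrrCharacter K (fun k : K => τ₂ k))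
    (hc : Nat.Coprime (charDegree τ₁) (charDegree τ₂))
    (hcon : ∀ τ ψ : H → ℂ, (τ = τ₁ ∨ τ = τ₂) → IsIrrCharacter H ψ → charDegree τ ∣ charDegree ψ →
      Nat.Coprime (charDegree ψ) m)
    (z : K →* ℂˣ) (g : H) : cj K g z = z := by
  classical
  by_contra hne
  have hw : com K z g ≠ 1 := fun h => hne ((com_eq_one_iff K).1 h)
  obtain ⟨x, hx⟩ : ∃ x, com K z g x ≠ 1 := by
    by_contra hcon'
    push Not at hcon'
    exact hw (MonoidHom.ext hcon')
  set u := com K z g x with hu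
  have hord : orderOf u ≠ 1 := fun h => hx (orderOf_eq_one_iff.1 h)
  obtain ⟨r, hr, hrd⟩ := Nat.exists_prime_and_dvd hord
  obtain ⟨a, b, hb', hab⟩ := Nat.exists_eq_pow_mul_and_not_dvd (Nat.card_pos (α := K)).ne' r hr.ne_one
  have hz₁a : ∀ n, (z ^ b) n ^ r ^ a = 1 := by
    intro n
    rw [MonoidHom.pow_apply, ← pow_mul, mul_comm, ← hab, ← map_pow, pow_card_eq_one', map_one]
  have hcom : com K (z ^ b) g x = u ^ b := by
    rw [com_apply, cj_pow_hom, MonoidHom.pow_apply, MonoidHom.pow_apply, hu, com_apply, mul_pow,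
      inv_pow]
  have hub : u ^ b ≠ 1 := fun h => hb' (hrd.trans (orderOf_dvd_of_pow_eq_one h))
  obtain ⟨τ, hτ, hi, hres, hrτ⟩ : ∃ τ : H → ℂ, (τ = τ₁ ∨ τ = τ₂) ∧ IsIrrCharacter H τ ∧
      IsIrrCharacter K (fun k : K => τ k) ∧ ¬ r ∣ charDegree τ := by
    by_cases h : r ∣ charDegree τ₁
    · refine ⟨τ₂, Or.inr rfl, h₂, r₂, fun h' => ?_⟩
      have := Nat.dvd_gcd h h'
      rw [hc] at this
      exact hr.one_lt.ne' (Nat.dvd_one.1 this)
    · exact ⟨τ₁, Or.inl rfl, h₁, r₁, h⟩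
  have hinv : ∀ n : H, conjFun K n (fun k : K => τ k) = fun k : K => τ k := fun n =>
    conjFun_res K (isClassFunction_of_isCharacter (isCharacter_of_isIrrCharacter hi)) n
  have hy : IsIrrCharacter K (mulz K (fun k : K => τ k) (z ^ b)) := isIrr_mul_hom hres (z ^ b)
  have hdeg1 : (fun k : K => τ k) 1 = charDegree τ := by
    show τ ((1 : K) : H) = _
    rw [Subgroup.coe_one, Values.IsCharacter.charDegree_cast (isCharacter_of_isIrrCharacter hi)]
  -- the inertia group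
  have hT : inertiaOf K (mulz K (fun k : K => τ k) (z ^ b)) ≤ inertiaOf K (Lz K (z ^ b)) := by
    intro n hn
    rw [mem_inertia_iff, conjFun_mulz, hinv n] at hn
    rw [mem_inertia_Lz]
    apply (com_eq_one_iff K).1
    ext k
    have h3 := congrFun hn k
    simp only [mulz] at h3
    have h4 : τ k * ((com K (z ^ b) n k : ℂˣ) : ℂ) = τ k := by
      rw [com_apply, Units.val_mul, Units.val_inv_eq_inv_val, ← mul_assoc, h3, mul_assoc,
        mul_inv_cancel₀ (Units.ne_zero _), mul_one]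
    have h5 := pow_eq_one_of_twist hres (com K (z ^ b) n) (fun k => by
      rw [com_apply, Units.val_mul, Units.val_inv_eq_inv_val, ← mul_assoc]
      have h6 := congrFun hn k
      simp only [mulz] at h6
      rw [h6, mul_assoc, mul_inv_cancel₀ (Units.ne_zero _), mul_one]) hdeg1 k
    have h6 : com K (z ^ b) n k ^ charDegree τ = 1 := by
      apply Units.ext
      simpa using h5
    have h7 : com K (z ^ b) n k ^ r ^ a = 1 := by
      rw [com_apply, mul_pow, inv_pow, hz₁a k, inv_one, mul_one, cj_apply, hz₁a]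
    have h8 := pow_gcd_eq_one.2 ⟨h7, h6⟩
    have hcop : Nat.gcd (r ^ a) (charDegree τ) = 1 :=
      Nat.Coprime.pow_left a ((Nat.Prime.coprime_iff_not_dvd hr).2 hrτ)
    rw [hcop, pow_one] at h8
    simp [h8]
  have hHz : inertiaOf K (Lz K (z ^ b)) ≠ ⊤ := by
    intro h
    have h3 : g ∈ inertiaOf K (Lz K (z ^ b)) := h ▸ Subgroup.mem_top g
    rw [mem_inertia_Lz] at h3
    have h4 : com K (z ^ b) g = 1 := (com_eq_one_iff K).2 h3
    rw [h4] at hcom
    exact hub hcom.symm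
  have hKHz : K ≤ inertiaOf K (Lz K (z ^ b)) := by
    intro k hk
    rw [mem_inertia_Lz]
    ext n
    rw [cj_apply]
    have h3 : (⟨k * n * k⁻¹, hK.conj_mem n n.2 k⟩ : K) = ⟨k, hk⟩ * n * (⟨k, hk⟩ : K)⁻¹ := rfl
    rw [h3, map_mul, map_mul, map_inv, mul_comm ((z ^ b) ⟨k, hk⟩), mul_inv_cancel_right]
  obtain ⟨r₀, hr₀, hr₀i, hr₀m⟩ := hb _ hKHz hHz
  obtain ⟨ψ, hψ, hov⟩ := ItoMichler.exists_irr_over K hy
  have d₁ := kap_dvd hψ hy hov
  have d₂ : charDegree τ ∣ charDegree ψ := by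
    have h3 := (degree_dvd_kap (mulz K (fun k : K => τ k) (z ^ b))).trans d₁
    rwa [charDegree_mulz, charDegree_res] at h3
  have d₃ : r₀ ∣ charDegree ψ :=
    (hr₀i.trans (Subgroup.index_dvd_of_le hT)).trans ((index_dvd_kap _).trans d₁)
  have h9 := Nat.dvd_gcd d₃ hr₀m
  rw [hcon τ ψ hτ hψ d₂] at h9
  exact hr₀.one_lt.ne' (Nat.dvd_one.1 h9)

/-- The section `K / K'` is central. -/
theorem central_step {K : Subgroup H} [hK : K.Normal]
    (hinv : ∀ (z : K →* ℂˣ) (g : H), cj K g z = z) {x : H} (hx : x ∈ K) (g : H) :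
    g * x * g⁻¹ * x⁻¹ ∈ ⁅K, K⁆ := by
  have h1 : (⟨g * x * g⁻¹, hK.conj_mem x hx g⟩ * (⟨x, hx⟩ : K)⁻¹ : K) ∈ commutator K := by
    apply mem_commutator_of_forall_hom
    intro z
    rw [map_mul, map_inv]
    have h2 := hinv z g
    have h3 : z ⟨g * x * g⁻¹, hK.conj_mem x hx g⟩ = z ⟨x, hx⟩ := by
      have := DFunLike.congr_fun h2 ⟨x, hx⟩
      rw [cj_apply] at this
      exact this
    rw [h3, mul_inv_cancel]
  rw [← Subgroup.map_subtype_commutator K]
  exact ⟨_, h1, rfl⟩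

/-- The primes of `K / K'` divide the index of `K`. -/
theorem index_primes_step {K : Subgroup H} [hK : K.Normal] [Fintype K] (hKH : K ≤ commutator H)
    (hs : Group.IsSolvable (H ⧸ K)) (hinv : ∀ (z : K →* ℂˣ) (g : H), cj K g z = z) {r : ℕ}
    (hr : r.Prime) (hrK : r ∣ ⁅K, K⁆.relIndex K) : r ∣ K.index := by
  classical
  obtain ⟨z, hz, a, hza⟩ := exists_L hr hrK
  obtain ⟨ψ, hψ, hov⟩ := ItoMichler.exists_irr_over K (LinearChars.isIrr_of_hom z)
  have h1 := pow_eq_one_of_inv_below hKH hψ z (fun g => hinv z g) hov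
  obtain ⟨d, hd, hd1⟩ := exists_dvd_of_constituent K hs hψ (LinearChars.isIrr_of_hom z) hov
  have hψd : charDegree ψ = d := by
    apply Values.IsCharacter.charDegree_eq (isCharacter_of_isIrrCharacter hψ)
    rw [hd1]
    simp
  obtain ⟨n, hn⟩ : ∃ n, z n ≠ 1 := by
    by_contra hcon'
    push Not at hcon'
    exact hz (MonoidHom.ext hcon')
  have h2 := h1 n
  have h3 := hza n
  by_contra hcon
  have hr' : ¬ r ∣ d := fun h => hcon (h.trans hd)
  have h4 := pow_gcd_eq_one.2 ⟨h3, h2⟩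
  have hcop : Nat.gcd (r ^ a) (charDegree ψ) = 1 := by
    rw [hψd]
    exact Nat.Coprime.pow_left a ((Nat.Prime.coprime_iff_not_dvd hr).2 hr')
  rw [hcop, pow_one] at h4
  exact hn h4

/-- A proper subgroup containing `K'` and supplementing `K` contains `H'`. -/
theorem proper_step {K : Subgroup H} [hK : K.Normal]
    (hinv : ∀ (z : K →* ℂˣ) (g : H), cj K g z = z) {H₁ : Subgroup H} (h₁ : ⁅K, K⁆ ≤ H₁)
    (hsup : H₁ ⊔ K = ⊤) : commutator H ≤ H₁ := by
  classical
  haveI : (⁅K, K⁆).Normal := Subgroup.commutator_normal K K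
  have hcen := fun {x : H} (hx : x ∈ K) (g : H) => central_step hinv hx g
  rw [commutator_def, Subgroup.commutator_le]
  intro g₁ _ g₂ _
  have hg₁ : g₁ ∈ H₁ ⊔ K := hsup ▸ Subgroup.mem_top g₁
  have hg₂ : g₂ ∈ H₁ ⊔ K := hsup ▸ Subgroup.mem_top g₂
  obtain ⟨h₁', hh₁, k₁, hk₁, rfl⟩ := Subgroup.mem_sup_of_normal_right.1 hg₁
  obtain ⟨h₂', hh₂, k₂, hk₂, rfl⟩ := Subgroup.mem_sup_of_normal_right.1 hg₂
  let π := QuotientGroup.mk' (⁅K, K⁆)
  have hcent : ∀ {x : H}, x ∈ K → ∀ y : H, π x * π y = π y * π x := by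
    intro x hx y
    have h3 : π (y * x * y⁻¹ * x⁻¹) = 1 := (QuotientGroup.eq_one_iff _).2 (hcen hx y)
    simp only [map_mul, map_inv] at h3
    have h4 : π y * π x * (π y)⁻¹ = π x := by
      rw [mul_inv_eq_one] at h3
      exact h3
    exact (mul_inv_eq_iff_eq_mul.1 h4).symm
  have h5 : π (⁅h₁' * k₁, h₂' * k₂⁆) = π (⁅h₁', h₂'⁆) := by
    simp only [commutatorElement_def, map_mul, map_inv, mul_inv_rev]
    have a₁ := hcent hk₁ h₂'
    have a₂ := hcent hk₁ k₂
    have a₃ := hcent hk₂ h₁'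
    have e₁ : π h₁' * π k₁ * (π h₂' * π k₂) * ((π k₁)⁻¹ * (π h₁')⁻¹) * ((π k₂)⁻¹ * (π h₂')⁻¹)
        = π h₁' * (π k₁ * π h₂') * π k₂ * (π k₁)⁻¹ * (π h₁')⁻¹ * (π k₂)⁻¹ * (π h₂')⁻¹ := by group
    rw [e₁, a₁]
    have e₂ : π h₁' * (π h₂' * π k₁) * π k₂ * (π k₁)⁻¹ * (π h₁')⁻¹ * (π k₂)⁻¹ * (π h₂')⁻¹
        = π h₁' * π h₂' * (π k₁ * π k₂) * (π k₁)⁻¹ * (π h₁')⁻¹ * (π k₂)⁻¹ * (π h₂')⁻¹ := by group
    rw [e₂, a₂]
    have e₃ : π h₁' * π h₂' * (π k₂ * π k₁) * (π k₁)⁻¹ * (π h₁')⁻¹ * (π k₂)⁻¹ * (π h₂')⁻¹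
        = π h₁' * π h₂' * (π k₂ * (π h₁')⁻¹) * (π k₂)⁻¹ * (π h₂')⁻¹ := by group
    rw [e₃]
    have a₄ : π k₂ * (π h₁')⁻¹ = (π h₁')⁻¹ * π k₂ := by
      have := hcent hk₂ (h₁'⁻¹)
      simpa using this
    rw [a₄]
    group
  have h6 : (⁅h₁', h₂'⁆)⁻¹ * ⁅h₁' * k₁, h₂' * k₂⁆ ∈ ⁅K, K⁆ := QuotientGroup.eq.1 h5.symm
  have h7 : ⁅h₁', h₂'⁆ ∈ H₁ := by
    rw [commutatorElement_def]
    exact H₁.mul_mem (H₁.mul_mem (H₁.mul_mem hh₁ hh₂) (H₁.inv_mem hh₁)) (H₁.inv_mem hh₂)
  have h8 := H₁.mul_mem h7 (h₁ h6)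
  rwa [mul_inv_cancel_left] at h8

/-- The restriction to `K'`. -/
theorem res_step {K : Subgroup H} [hK : K.Normal] [Fintype K] {τ : H → ℂ}
    (hres : IsIrrCharacter K (fun k : K => τ k)) (hi : IsCharacter H τ)
    (hc : Nat.Coprime (charDegree τ) (⁅K, K⁆.relIndex K)) :
    IsIrrCharacter (⁅K, K⁆ : Subgroup H) (fun k : (⁅K, K⁆ : Subgroup H) => τ k) := by
  classical
  have hle : (⁅K, K⁆ : Subgroup H) ≤ K := Subgroup.commutator_le_self K
  haveI : ((⁅K, K⁆ : Subgroup H).subgroupOf K).Normal :=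
    (Subgroup.commutator_normal K K).subgroupOf K
  haveI : Fintype ((⁅K, K⁆ : Subgroup H).subgroupOf K) := Fintype.ofFinite _
  have hab : (⁅K, K⁆ : Subgroup H).subgroupOf K = commutator K := by
    rw [← Subgroup.map_subtype_commutator K]
    exact Subgroup.comap_map_eq_self_of_injective K.subtype_injective _
  have hsol : Group.IsSolvable (K ⧸ (⁅K, K⁆ : Subgroup H).subgroupOf K) := by
    apply Group.isSolvable_of_comm
    intro a b
    induction a using QuotientGroup.induction_on with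
    | H a =>
      induction b using QuotientGroup.induction_on with
      | H b =>
        rw [← QuotientGroup.mk_mul, ← QuotientGroup.mk_mul, QuotientGroup.eq, hab]
        have h3 : (a * b)⁻¹ * (b * a) = ⁅b⁻¹, a⁻¹⁆ := by
          rw [commutatorElement_def]
          group
        rw [h3, commutator_def]
        exact Subgroup.commutator_mem_commutator (Subgroup.mem_top _) (Subgroup.mem_top _)
  have h1 := Cfsg.Agent.Lib.Char.ThreeDeg.isIrr_res_of_coprime_index
    ((⁅K, K⁆ : Subgroup H).subgroupOf K) hsol hres (k := charDegree τ) (by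
      show τ ((1 : K) : H) = _
      rw [Subgroup.coe_one, Values.IsCharacter.charDegree_cast hi]) hc
  let e : (⁅K, K⁆ : Subgroup H) →* (⁅K, K⁆ : Subgroup H).subgroupOf K :=
    (Subgroup.subgroupOfEquivOfLe hle).symm.toMonoidHom
  have he : Function.Surjective e := (Subgroup.subgroupOfEquivOfLe hle).symm.surjective
  have h2 := isIrrCharacter_comp_surjective h1 e he
  exact h2

/-- **The descent lemma.** -/
theorem descent [Group.IsSolvable H] {τ₁ τ₂ : H → ℂ} (h₁ : IsIrrCharacter H τ₁)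
    (h₂ : IsIrrCharacter H τ₂) (hn₁ : charDegree τ₁ ≠ 1)
    (hc₁ : Nat.Coprime (charDegree τ₁) (commutator H).index)
    (hc₂ : Nat.Coprime (charDegree τ₂) (commutator H).index)
    (hc : Nat.Coprime (charDegree τ₁) (charDegree τ₂)) :
    ∃ τ ψ : H → ℂ, (τ = τ₁ ∨ τ = τ₂) ∧ IsIrrCharacter H ψ ∧ charDegree τ ∣ charDegree ψ ∧
      ¬ Nat.Coprime (charDegree ψ) (commutator H).index := by
  classical
  by_contra hcon
  push Not at hcon
  set m := (commutator H).index with hm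
  let P : Subgroup H → Prop := fun K => K.Normal ∧ K ≤ commutator H ∧
    (∀ r : ℕ, r.Prime → r ∣ K.index → r ∣ m) ∧
    (∀ H₁ : Subgroup H, K ≤ H₁ → H₁ ≠ ⊤ → ∃ r : ℕ, r.Prime ∧ r ∣ H₁.index ∧ r ∣ m) ∧
    IsIrrCharacter K (fun k : K => τ₁ k) ∧ IsIrrCharacter K (fun k : K => τ₂ k)
  have hcast : ∀ {τ : H → ℂ}, IsIrrCharacter H τ → τ 1 = (charDegree τ : ℂ) := fun h =>
    (Values.IsCharacter.charDegree_cast (isCharacter_of_isIrrCharacter h)).symm
  have hP : P (commutator H) := by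
    haveI : Fintype (commutator H) := Fintype.ofFinite _
    have hsol : Group.IsSolvable (H ⧸ commutator H) :=
      Group.isSolvable_of_comm (fun a b => mul_comm (G := Abelianization H) a b)
    refine ⟨inferInstance, le_rfl, fun r _ h => h, ?_, ?_, ?_⟩
    · intro H₁ hle hne
      have h1 := Subgroup.index_dvd_of_le hle
      have h2 : H₁.index ≠ 1 := fun h => hne (Subgroup.index_eq_one.1 h)
      obtain ⟨r, hr, hrd⟩ := Nat.exists_prime_and_dvd h2
      exact ⟨r, hr, hrd, hrd.trans h1⟩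
    · exact isIrr_res_of_coprime_index (commutator H) hsol h₁ (hcast h₁) hc₁
    · exact isIrr_res_of_coprime_index (commutator H) hsol h₂ (hcast h₂) hc₂
  haveI : Nonempty {K : Subgroup H // P K} := ⟨⟨_, hP⟩⟩
  obtain ⟨⟨K, hKP⟩, hmin⟩ := Finite.exists_min (fun K : {K : Subgroup H // P K} => Nat.card K.1)
  obtain ⟨hKn, hKH, hprimes, hproper, r₁, r₂⟩ := hKP
  haveI := hKn
  haveI : Fintype K := Fintype.ofFinite _
  have hinv := inv_step hproper h₁ h₂ r₁ r₂ hc hcon
  have hKbot : K ≠ ⊥ := by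
    rintro rfl
    have h3 := FrobPair.degree_eq_one_of_comm
      (fun a b : (⊥ : Subgroup H) => Subsingleton.elim (a * b) (b * a)) r₁
    apply hn₁
    apply Values.IsCharacter.charDegree_eq (isCharacter_of_isIrrCharacter h₁)
    have h4 : τ₁ ((1 : (⊥ : Subgroup H)) : H) = 1 := h3
    rw [Subgroup.coe_one] at h4
    rw [h4]
    simp
  have hLle : (⁅K, K⁆ : Subgroup H) ≤ K := Subgroup.commutator_le_self K
  have hLne : (⁅K, K⁆ : Subgroup H) ≠ K := by
    intro h
    haveI hnt : Nontrivial K := (Subgroup.nontrivial_iff_ne_bot K).2 hKbot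
    have h3 := Subgroup.map_subtype_commutator K
    rw [h] at h3
    have h5 : commutator K = ⊤ := by
      apply Subgroup.map_injective K.subtype_injective
      rw [h3, ← MonoidHom.range_eq_map, Subgroup.range_subtype]
    exact (Group.IsSolvable.commutator_lt_top_of_nontrivial K).ne h5
  have hsK : Group.IsSolvable (H ⧸ K) := inferInstance
  have hindex : (⁅K, K⁆ : Subgroup H).index = (⁅K, K⁆ : Subgroup H).relIndex K * K.index :=
    (Subgroup.relIndex_mul_index hLle).symm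
  have hprimes' : ∀ r : ℕ, r.Prime → r ∣ (⁅K, K⁆ : Subgroup H).index → r ∣ m := by
    intro r hr h
    rw [hindex] at h
    rcases (Nat.Prime.dvd_mul hr).1 h with h | h
    · exact hprimes r hr (index_primes_step hKH hsK hinv hr h)
    · exact hprimes r hr h
  have hcop : ∀ {τ : H → ℂ}, Nat.Coprime (charDegree τ) m →
      Nat.Coprime (charDegree τ) ((⁅K, K⁆ : Subgroup H).relIndex K) := by
    intro τ hτ
    refine Nat.coprime_of_dvd fun k hk hk₁ hk₂ => ?_
    have h3 := hprimes' k hk (by rw [hindex]; exact Dvd.dvd.mul_right hk₂ _)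
    have h4 := Nat.dvd_gcd hk₁ h3
    rw [hτ] at h4
    exact hk.one_lt.ne' (Nat.dvd_one.1 h4)
  have hPL : P (⁅K, K⁆ : Subgroup H) := by
    refine ⟨Subgroup.commutator_normal K K, hLle.trans hKH, hprimes', ?_,
      res_step r₁ (isCharacter_of_isIrrCharacter h₁) (hcop hc₁),
      res_step r₂ (isCharacter_of_isIrrCharacter h₂) (hcop hc₂)⟩
    intro H₁ hle hne
    by_cases hsup : H₁ ⊔ K = ⊤
    · have h1 := proper_step hinv hle hsup
      have h2 := Subgroup.index_dvd_of_le h1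
      have h3 : H₁.index ≠ 1 := fun h => hne (Subgroup.index_eq_one.1 h)
      obtain ⟨r, hr, hrd⟩ := Nat.exists_prime_and_dvd h3
      exact ⟨r, hr, hrd, hrd.trans h2⟩
    · obtain ⟨r, hr, hr1, hr2⟩ := hproper (H₁ ⊔ K) le_sup_right hsup
      exact ⟨r, hr, hr1.trans (Subgroup.index_dvd_of_le le_sup_left), hr2⟩
  have hle := hmin ⟨_, hPL⟩
  exact hLne (Subgroup.eq_of_le_of_card_ge hLle hle)

end Cfsg.Agent.Lib.Char.RelGraph
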