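import Mathlib
import Cfsg.Agent.Lib.Char.RelGraph.Descent

/-!
# The refined pair lemma
-/

set_option autoImplicit false
set_option linter.style.haveILetI false
set_option linter.unusedSectionVars false

namespace Cfsg.Agent.Lib.Char.RelGraph

open Cfsg Cfsg.Agent.Lib.Char Cfsg.Agent.Lib.Char.Basic Cfsg.Agent.Lib.Char.Ortho
  Cfsg.Agent.Lib.Char.Clifford Cfsg.Agent.Lib.Char.CliffordCorr Cfsg.Agent.Lib.Char.Monomial
  Cfsg.Agent.Lib.Char.TwoDeg Cfsg.Agent.Lib.Char.TwistDet Cfsg.Agent.Lib.Char.PrimeIndex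

universe u

variable {G : Type u} [Group G] [Fintype G] {N : Subgroup G} [hN : N.Normal] [Fintype N]

/-- **The refined pair lemma.** -/
theorem pair_core (hno : NoInv N) {τ : N → ℂ} (hτ : IsIrrCharacter N τ) {z : N →* ℂˣ} (hz : z ≠ 1)
    (hcop : Nat.Coprime (kap N τ) (kap N (Lz N z))) :
    mulz N τ z ≠ (fun _ => 1) ∧
    ((1 < Nat.gcd (kap N (mulz N τ z)) (kap N τ) ∧ 1 < Nat.gcd (kap N (mulz N τ z)) (kap N (Lz N z))) ∨
      Stable τ z ∨ ∃ z', τ = Lz N z' ∧ Stable (Lz N z) z') := by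
  have hL := LinearChars.isIrr_of_hom z
  have hL1 := Lz_ne_one hz
  have hgcd : ∀ {α β : N → ℂ}, IsIrrCharacter N α → ¬ Nat.Coprime (kap N α) (kap N β) →
      1 < Nat.gcd (kap N α) (kap N β) := by
    intro α β hα h
    have h0 : 0 < Nat.gcd (kap N α) (kap N β) :=
      Nat.gcd_pos_of_pos_left _ (Nat.pos_of_ne_zero (kap_ne_zero hα))
    have h1 : Nat.gcd (kap N α) (kap N β) ≠ 1 := h
    omega
  have hy : IsIrrCharacter N (mulz N τ z) := isIrr_mul_hom hτ z
  have hcopT : Nat.Coprime (inertiaOf N τ).index (inertiaOf N (Lz N z)).index :=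
    Nat.Coprime.coprime_dvd_left (index_dvd_kap τ) (by rw [← kap_Lz]; exact hcop)
  have hy1 : mulz N τ z ≠ fun _ => 1 := by
    intro h
    have hτz : τ = Lz N z⁻¹ := by
      funext n
      have h1 := congrFun h n
      simp only [mulz] at h1
      show τ n = ((z⁻¹ n : ℂˣ) : ℂ)
      rw [MonoidHom.inv_apply, Units.val_inv_eq_inv_val]
      exact eq_inv_of_mul_eq_one_left h1
    have hT : inertiaOf N (Lz N z⁻¹) = inertiaOf N (Lz N z) := by
      ext g
      rw [mem_inertia_Lz, mem_inertia_Lz, cj_inv_hom]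
      constructor
      · intro h
        ext n
        have h3 := DFunLike.congr_fun h n
        simp only [MonoidHom.inv_apply, inv_inj] at h3
        rw [h3]
      · intro h
        rw [h]
    rw [hτz, hT] at hcopT
    have h1 := one_lt_kap hno hL hL1
    rw [kap_Lz] at h1
    rw [Nat.coprime_self] at hcopT
    omega
  refine ⟨hy1, ?_⟩
  by_cases h1 : Nat.Coprime (kap N (mulz N τ z)) (kap N (Lz N z))
  · refine Or.inr (Or.inl (stable_of_coprime hcopT ?_))
    apply Nat.Coprime.coprime_dvd_left (index_dvd_kap _)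
    rw [← kap_Lz]
    exact h1
  by_cases h2 : Nat.Coprime (kap N (mulz N τ z)) (kap N τ)
  · refine Or.inr (Or.inr ?_)
    have hd : charDegree τ = 1 := by
      have h3 : charDegree τ ∣ Nat.gcd (kap N (mulz N τ z)) (kap N τ) :=
        Nat.dvd_gcd ((charDegree_mulz τ z) ▸ degree_dvd_kap _) (degree_dvd_kap _)
      rw [h2] at h3
      exact Nat.dvd_one.1 h3
    have hτc := isCharacter_of_isIrrCharacter hτ
    have hτone : τ 1 = 1 := by
      rw [← Values.IsCharacter.charDegree_cast hτc, hd]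
      simp
    obtain ⟨z', hz'⟩ := LinearChars.exists_hom_of_isCharacter_one hτc hτone
    have hz'' : τ = Lz N z' := hz'
    refine ⟨z', hz'', ?_⟩
    apply stable_of_coprime
    · rw [← hz'']
      exact hcopT.symm
    · have h3 : mulz N (Lz N z) z' = mulz N τ z := by
        rw [hz'', mulz_Lz, mulz_Lz]
        funext n
        show ((z n * z' n : ℂˣ) : ℂ) = ((z' n * z n : ℂˣ) : ℂ)
        rw [mul_comm]
      rw [h3, ← hz'']
      apply Nat.Coprime.coprime_dvd_left (index_dvd_kap _)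
      apply Nat.Coprime.coprime_dvd_right (index_dvd_kap _)
      exact h2
  · exact Or.inl ⟨hgcd hy h2, hgcd hy h1⟩

/-- Stability passes to powers. -/
theorem Stable.pow {τ : N → ℂ} {z : N →* ℂˣ} (hst : Stable τ z) (b : ℕ) : Stable τ (z ^ b) := by
  induction b with
  | zero =>
    intro g k
    refine ⟨g, ?_⟩
    funext n
    show conjFun N g τ n * ((com N (z ^ 0) k n : ℂˣ) : ℂ) = _
    rw [com_apply, cj_pow_hom]
    simp
  | succ b ih =>
    intro g k
    obtain ⟨g₁, hg₁⟩ := ih g k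
    obtain ⟨g₂, hg₂⟩ := hst g₁ k
    refine ⟨g₂, ?_⟩
    rw [← hg₂, ← hg₁, mulz_mulz]
    congr 1
    ext n
    simp only [com_apply, cj_pow_hom, MonoidHom.pow_apply, MonoidHom.mul_apply, pow_succ,
      mul_inv, Units.val_mul, Units.val_inv_eq_inv_val, Units.val_pow_eq_pow_val]
    ring

/-- The exponent of a homomorphism divides `|N : N'|` on each value. -/
theorem apply_pow_relIndex (z : N →* ℂˣ) (y : N) : z y ^ ⁅N, N⁆.relIndex N = 1 := by
  have h1 : ⁅N, N⁆.subgroupOf N = commutator N := by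
    rw [← Subgroup.map_subtype_commutator N]
    exact Subgroup.comap_map_eq_self_of_injective N.subtype_injective _
  have h2 : y ^ (commutator N).index ∈ commutator N := Subgroup.pow_index_mem _ _
  have h3 := Abelianization.commutator_subset_ker z h2
  rw [MonoidHom.mem_ker, map_pow] at h3
  rw [Subgroup.relIndex, h1]
  exact h3

/-- A prime for a stability relation. -/
theorem exists_prime_of_stable {τ : N → ℂ} (hτ : IsIrrCharacter N τ) {z : N →* ℂˣ}
    (hst : Stable τ z) {k : G} (hk : cj N k z ≠ z) :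
    ∃ r : ℕ, r.Prime ∧ r ∣ kap N τ ∧ r ∣ ⁅N, N⁆.relIndex N := by
  classical
  have hw : com N z k ≠ 1 := fun h => hk ((com_eq_one_iff N).1 h)
  obtain ⟨x, hx⟩ : ∃ x, com N z k x ≠ 1 := by
    by_contra hcon'
    push Not at hcon'
    exact hw (MonoidHom.ext hcon')
  set u := com N z k x with hu
  have hord : orderOf u ≠ 1 := fun h => hx (orderOf_eq_one_iff.1 h)
  obtain ⟨r, hr, hrd⟩ := Nat.exists_prime_and_dvd hord
  obtain ⟨a, b, hb', hab⟩ := Nat.exists_eq_pow_mul_and_not_dvd (Nat.card_pos (α := N)).ne' r hr.ne_one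
  have hz₁a : ∀ n, (z ^ b) n ^ r ^ a = 1 := by
    intro n
    rw [MonoidHom.pow_apply, ← pow_mul, mul_comm, ← hab, ← map_pow, pow_card_eq_one', map_one]
  have hcom : com N (z ^ b) k x = u ^ b := by
    rw [com_apply, cj_pow_hom, MonoidHom.pow_apply, MonoidHom.pow_apply, hu, com_apply, mul_pow,
      inv_pow]
  have hub : u ^ b ≠ 1 := fun h => hb' (hrd.trans (orderOf_dvd_of_pow_eq_one h))
  have hk₁ : cj N k (z ^ b) ≠ z ^ b := by
    intro h
    have h4 : com N (z ^ b) k = 1 := (com_eq_one_iff N).2 h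
    rw [h4] at hcom
    exact hub hcom.symm
  refine ⟨r, hr, dvd_kap_of_stable hτ (hst.pow b) hr hz₁a hk₁, ?_⟩
  -- `r` divides `m`
  obtain ⟨y, hy⟩ : ∃ y, (z ^ b) y ≠ 1 := by
    by_contra hcon'
    push Not at hcon'
    apply hk₁
    have h5 : z ^ b = 1 := MonoidHom.ext hcon'
    rw [h5]
    ext n
    simp [cj_apply]
  by_contra hrm
  have h6 := pow_gcd_eq_one.2 ⟨hz₁a y, apply_pow_relIndex (z ^ b) y⟩
  have hcop : Nat.gcd (r ^ a) (⁅N, N⁆.relIndex N) = 1 :=
    Nat.Coprime.pow_left a ((Nat.Prime.coprime_iff_not_dvd hr).2 hrm)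
  rw [hcop, pow_one] at h6
  exact hy h6

end Cfsg.Agent.Lib.Char.RelGraph
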